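import Groth.Agent.GRingCompleteLib.Main
import Groth.Agent.RatliffLib.EssFinite

/-!
# Formal fibres of essentially finite type algebras
-/

set_option autoImplicit false
set_option backward.isDefEq.respectTransparency false
set_option maxHeartbeats 1000000
universe u

open IsLocalRing TensorProduct

namespace Groth.Agent.GRingCompleteLib

/-- The completion of a flat local homomorphism is faithfully flat. -/
theorem exists_completion_cover (B C : Type u) [CommRing B] [CommRing C] [IsLocalRing B] [IsLocalRing C]
    [IsNoetherianRing B] [IsNoetherianRing C] [Algebra B C] [IsLocalHom (algebraMap B C)] [Module.Flat B C] :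
    ∃ (_ : Algebra (EGA4.Cpl B) (EGA4.Cpl C)), IsScalarTower B (EGA4.Cpl B) (EGA4.Cpl C) ∧
      Module.FaithfullyFlat (EGA4.Cpl B) (EGA4.Cpl C) := by
  obtain ⟨_, _, _, _, hmax⟩ := RatliffLib.compl_facts B
  obtain ⟨_, hnC, _, _, hmax'⟩ := RatliffLib.compl_facts C
  haveI := hnC
  let Bh := AdicCompletion (maximalIdeal B) B
  let Ch := AdicCompletion (maximalIdeal C) C
  have hle : (maximalIdeal B).map (algebraMap B C) ≤ maximalIdeal C :=
    ((local_hom_TFAE (algebraMap B C)).out 0 2 rfl rfl).mp inferInstance
  letI alg : Algebra Bh Ch := (CMCat.complHom (algebraMap B C) (maximalIdeal B) (maximalIdeal C) hle).toAlgebra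
  haveI : IsScalarTower B Bh Ch := IsScalarTower.of_algebraMap_eq fun r => by
    rw [RingHom.algebraMap_toAlgebra, CMCat.complHom_algebraMap, ← IsScalarTower.algebraMap_apply B C Ch]
  haveI : Module.Flat B Ch := Module.Flat.trans B C Ch
  have hmC : (maximalIdeal B).map (algebraMap B Ch) ≤ maximalIdeal Ch := by
    rw [IsScalarTower.algebraMap_eq B C Ch, ← Ideal.map_map, hmax']
    exact Ideal.map_mono hle
  haveI : Module.Flat Bh Ch :=
    RatliffLib.flat_over_completion (by rwa [IsLocalRing.jacobson_eq_maximalIdeal ⊥ bot_ne_top])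
  haveI : IsLocalHom (algebraMap Bh Ch) := by
    refine ((local_hom_TFAE _).out 0 2).mpr ?_
    rw [hmax, Ideal.map_map, ← IsScalarTower.algebraMap_eq]
    exact hmC
  exact ⟨alg, inferInstance, Module.FaithfullyFlat.of_flat_of_isLocalHom⟩

/-- The local rings of a faithfully flat cover. -/
theorem exists_local_cover (B₀ B T : Type u) [CommRing B₀] [CommRing B] [IsLocalRing B] [CommRing T] [Algebra B₀ B]
    (q : Ideal B₀) [q.IsPrime] [IsLocalization.AtPrime B q] [Algebra B₀ T] [Module.FaithfullyFlat B₀ T] :
    ∃ (N : Ideal T) (_ : N.IsPrime) (_ : Algebra B (Localization.AtPrime N)),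
      IsScalarTower B₀ B (Localization.AtPrime N) ∧ Module.Flat B (Localization.AtPrime N) ∧
        IsLocalHom (algebraMap B (Localization.AtPrime N)) := by
  obtain ⟨⟨N, hN⟩, h⟩ := PrimeSpectrum.comap_surjective_of_faithfullyFlat (A := B₀) (B := T) ⟨q, inferInstance⟩
  haveI := hN
  have hNq : N.comap (algebraMap B₀ T) = q := congrArg PrimeSpectrum.asIdeal h
  let C := Localization.AtPrime N
  have hmem : ∀ a : B₀, a ∈ q ↔ algebraMap B₀ C a ∈ maximalIdeal C := fun a => by
    rw [IsScalarTower.algebraMap_apply B₀ T C, ← hNq, Ideal.mem_comap]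
    exact (IsLocalization.AtPrime.to_map_mem_maximal_iff C N _).symm
  have hunit : ∀ y : q.primeCompl, IsUnit (algebraMap B₀ C y) := fun y => by
    by_contra hy
    exact y.2 ((hmem _).2 hy)
  letI alg : Algebra B C := (IsLocalization.lift (M := q.primeCompl) (S := B) hunit).toAlgebra
  haveI : IsScalarTower B₀ B C := IsScalarTower.of_algebraMap_eq fun a =>
    (IsLocalization.lift_eq hunit a).symm
  refine ⟨N, hN, alg, inferInstance, ?_, ⟨fun x hx => ?_⟩⟩
  · haveI : Module.Flat T C := IsLocalization.flat C N.primeCompl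
    haveI : Module.Flat B₀ C := Module.Flat.trans B₀ T C
    exact (Module.flat_iff_of_isLocalization B q.primeCompl C).2 inferInstance
  · obtain ⟨a, s, rfl⟩ := IsLocalization.exists_mk'_eq q.primeCompl x
    refine (IsLocalization.AtPrime.isUnit_mk'_iff B q a s).2 fun ha => ?_
    have h1 : algebraMap B₀ C a = algebraMap B C (IsLocalization.mk' B a s) * algebraMap B₀ C s := by
      rw [IsScalarTower.algebraMap_apply B₀ B C, IsScalarTower.algebraMap_apply B₀ B C, ← map_mul,
        IsLocalization.mk'_spec]
    exact (hmem a).1 ha (h1 ▸ hx.mul (hunit s))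

/-- A regular faithfully flat cover by a G-ring. -/
theorem isRegularHom_completion_of_cover (B₀ B T : Type u) [CommRing B₀] [CommRing B] [IsLocalRing B] [IsNoetherianRing B]
    [CommRing T] [Algebra B₀ B] (q : Ideal B₀) [q.IsPrime] [IsLocalization.AtPrime B q] [Algebra B₀ T]
    [Module.FaithfullyFlat B₀ T] (hT : CAlg.IsGRing T) (h : CAlg.IsRegularHom B₀ T) :
    CAlg.IsRegularHom B (EGA4.Cpl B) := by
  obtain ⟨N, hN, alg, htower, hflat, hloc⟩ := exists_local_cover B₀ B T q
  haveI := hT.1
  haveI := hN
  haveI := hflat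
  haveI := hloc
  let C := Localization.AtPrime N
  haveI : IsNoetherianRing C := IsLocalization.isNoetherianRing N.primeCompl _ inferInstance
  haveI : IsNoetherianRing (EGA4.Cpl C) := RegLocal.isNoetherianRing_completion C _
  haveI : IsNoetherianRing (EGA4.Cpl B) := RegLocal.isNoetherianRing_completion B _
  have h1 : CAlg.IsRegularHom B C := RegHomLib.isRegularHom_localization h q.primeCompl B N.primeCompl C
  have h2 : CAlg.IsRegularHom C (EGA4.Cpl C) := hT.2 N
  have h3 : CAlg.IsRegularHom B (EGA4.Cpl C) := RegDesc.isRegularHom_comp B C (EGA4.Cpl C) h1 h2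
  obtain ⟨alg', htower', hff⟩ := exists_completion_cover B C
  exact RegDesc.isRegularHom_of_comp B (EGA4.Cpl B) (EGA4.Cpl C) h3

/-- The standard cover of an essentially finite type local algebra. -/
theorem exists_model (A B : Type u) [CommRing A] [IsNoetherianRing A] [IsLocalRing A] [CommRing B] [IsLocalRing B]
    [Algebra A B] [Algebra.EssFiniteType A B] :
    ∃ (B₀ : Subalgebra A B) (q : Ideal B₀) (_ : q.IsPrime), Algebra.FiniteType A B₀ ∧ IsLocalization.AtPrime B q := by
  let B₀ := Algebra.EssFiniteType.subalgebra A B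
  let q := (maximalIdeal B).comap (algebraMap B₀ B)
  refine ⟨B₀, q, inferInstance, inferInstance, ?_⟩
  have hM : q.primeCompl = Algebra.EssFiniteType.submonoid A B := by
    ext x
    show ¬ (algebraMap B₀ B x ∈ maximalIdeal B) ↔ IsUnit (algebraMap B₀ B x)
    exact not_not
  show IsLocalization q.primeCompl B
  rw [hM]; infer_instance

/-- The cover is a finite type algebra over the completion, hence a G-ring. -/
theorem isGRing_cover (A : Type u) [CommRing A] [IsNoetherianRing A] [IsLocalRing A] (B₀ : Type u) [CommRing B₀]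
    [Algebra A B₀] [Algebra.FiniteType A B₀] : CAlg.IsGRing (B₀ ⊗[A] EGA4.Cpl A) := by
  obtain ⟨_, hn, hc, _, _⟩ := RatliffLib.compl_facts A
  haveI := hn
  haveI := hc
  letI : Algebra (EGA4.Cpl A) (B₀ ⊗[A] EGA4.Cpl A) := Algebra.TensorProduct.rightAlgebra
  haveI : Algebra.FiniteType (EGA4.Cpl A) (B₀ ⊗[A] EGA4.Cpl A) :=
    Algebra.FiniteType.equiv (R := EGA4.Cpl A) inferInstance (Algebra.TensorProduct.commRight A (EGA4.Cpl A) B₀)
  exact isGRing_finiteType (EGA4.Cpl A) _

/-- Regular formal fibres pass to essentially finite type local algebras. -/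
theorem isRegularHom_completion_essFiniteType (A : Type u) [CommRing A] [IsNoetherianRing A] [IsLocalRing A]
    (hA : CAlg.IsRegularHom A (EGA4.Cpl A)) (B : Type u) [CommRing B] [IsNoetherianRing B] [IsLocalRing B] [Algebra A B]
    [Algebra.EssFiniteType A B] : CAlg.IsRegularHom B (EGA4.Cpl B) := by
  obtain ⟨B₀, q, hq, hft, hloc⟩ := exists_model A B
  haveI := hq
  haveI := hft
  haveI := hloc
  obtain ⟨_, _, _, _, _⟩ := RatliffLib.compl_facts A
  haveI : Module.FaithfullyFlat A (EGA4.Cpl A) := Module.FaithfullyFlat.of_flat_of_isLocalHom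
  haveI : Module.FaithfullyFlat B₀ (B₀ ⊗[A] EGA4.Cpl A) := inferInstance
  have hT := isGRing_cover A B₀
  haveI := hT.1
  exact isRegularHom_completion_of_cover B₀ B _ q hT (RegDesc.isRegularHom_baseChange A (EGA4.Cpl A) B₀ hA)

/-- Finite type algebras over G-rings are G-rings. -/
theorem isGRing_of_finiteType (R : Type u) [CommRing R] (hR : CAlg.IsGRing R) (S : Type u) [CommRing S] [Algebra R S]
    [Algebra.FiniteType R S] : CAlg.IsGRing S := by
  haveI := hR.1
  haveI : IsNoetherianRing S := Algebra.FiniteType.isNoetherianRing R S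
  refine ⟨inferInstance, fun Q _ => ?_⟩
  let p := Q.comap (algebraMap R S)
  haveI : Q.LiesOver p := ⟨rfl⟩
  let A := Localization.AtPrime p
  let B := Localization.AtPrime Q
  letI : Algebra A B := Localization.AtPrime.algebraOfLiesOver p Q
  haveI : IsNoetherianRing A := IsLocalization.isNoetherianRing p.primeCompl _ inferInstance
  haveI : IsNoetherianRing B := IsLocalization.isNoetherianRing Q.primeCompl _ inferInstance
  haveI : Algebra.EssFiniteType S B := Algebra.EssFiniteType.of_isLocalization B Q.primeCompl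
  haveI : Algebra.EssFiniteType R B := Algebra.EssFiniteType.comp R S B
  haveI : Algebra.EssFiniteType A B := Algebra.EssFiniteType.of_comp R A B
  exact isRegularHom_completion_essFiniteType A (hR.2 p) B

end Groth.Agent.GRingCompleteLib
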