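import Groth.Agent.GRingCompleteLib.Fibre
import Groth.Agent.J2CompleteLib.Local
import Groth.Agent.RegDesc.FormalFibres
import Groth.Agent.ExcLib.Localization

/-!
# Complete Noetherian local rings are universally G-rings
-/

set_option autoImplicit false
set_option backward.isDefEq.respectTransparency false
set_option maxHeartbeats 1000000
universe u

open IsLocalRing TensorProduct

namespace Groth.Agent.GRingCompleteLib

local instance {σ k : Type*} [CommRing k] [IsDomain k] : IsDomain (MvPowerSeries σ k) :=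
  NoZeroDivisors.to_isDomain _

local instance {k : Type u} [Field k] {n : ℕ} : IsRegularRing (MvPowerSeries (Fin n) k) :=
  haveI := WildQuotLib.isRegularLocalRing k n
  RegLocLib.isRegularRing_of_isRegularLocalRing _

/-- Power series rings over fields are good bases. -/
theorem goodBase_powerSeries (k : Type u) [Field k] (n : ℕ) : GoodBase (MvPowerSeries (Fin n) k) := by
  have hC : Function.Injective (MvPowerSeries.C (σ := Fin n) (R := k)) := fun a b h => MvPowerSeries.C_injective h
  obtain ⟨p, hp⟩ := CharP.exists k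
  rcases CharP.char_is_prime_or_zero k p with hpr | rfl
  · haveI := Fact.mk hpr
    haveI hcp : CharP (MvPowerSeries (Fin n) k) p := charP_of_injective_ringHom hC p
    refine Or.inr ⟨p, hpr, hcp, fun K _ _ _ => ?_⟩
    haveI : CharP K p := charP_of_injective_algebraMap (IsFractionRing.injective (MvPowerSeries (Fin n) k) K) p
    exact (J2CompleteLib.good_powerSeries k p n K).2.2.1
  · haveI : CharZero k := CharP.charP_to_charZero k
    exact Or.inl (charZero_of_injective_ringHom hC)

/-- Complete Noetherian local domains are finite over good bases. -/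
theorem exists_base (R : Type u) [CommRing R] [IsDomain R] [IsLocalRing R] [IsNoetherianRing R]
    [IsAdicComplete (maximalIdeal R) R] :
    ∃ (R₀ : Type u) (_ : CommRing R₀) (_ : IsDomain R₀) (_ : IsNoetherianRing R₀) (_ : IsRegularRing R₀) (g : R₀ →+* R),
      GoodBase R₀ ∧ g.Finite ∧ Function.Injective g := by
  classical
  by_cases hf : IsField R
  · letI := hf.toField
    let e : MvPowerSeries (Fin 0) R ≃+* R := RingEquiv.ofBijective MvPowerSeries.constantCoeff
      ⟨fun a b h => MvPowerSeries.ext fun m => by rwa [Subsingleton.elim m 0], fun r => ⟨MvPowerSeries.C r, MvPowerSeries.constantCoeff_C r⟩⟩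
    exact ⟨MvPowerSeries (Fin 0) R, inferInstance, inferInstance, inferInstance, inferInstance, e.toRingHom,
      goodBase_powerSeries R 0, RingHom.Finite.of_surjective _ e.surjective, e.injective⟩
  obtain ⟨d, hd⟩ := RegLocal.exists_nat_ringKrullDim (R := R)
  have hd1 : 1 ≤ d := by
    by_contra h
    have h0 : ringKrullDim R = 0 := by rw [hd]; norm_num; omega
    haveI : Ring.KrullDimLE 0 R := Ring.krullDimLE_iff.2 h0.le
    exact hf Ring.KrullDimLE.isField_of_isDomain
  have hsop : ∀ {f : R}, f ∈ maximalIdeal R → f ≠ 0 →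
      ∃ y : Fin (d - 1) → R, (∀ i, y i ∈ maximalIdeal R) ∧
        maximalIdeal R ≤ (Ideal.span (insert f (Set.range y))).radical := fun {f} hfm hf0 => by
    obtain ⟨y, -, hy, hrad⟩ := SopLib.exists_sop_extending hd hfm (fun p hp hfp => hf0 (by
      rw [show p = ⊥ by simpa [IsDomain.minimalPrimes_eq_singleton_bot] using hp] at hfp
      simpa using hfp)) 0
    exact ⟨y, hy, hrad⟩
  -- equicharacteristic case
  have equi : ∀ (k₀ : Type u) [Field k₀] [Algebra k₀ R],
      ∃ (R₀ : Type u) (_ : CommRing R₀) (_ : IsDomain R₀) (_ : IsNoetherianRing R₀) (_ : IsRegularRing R₀) (g : R₀ →+* R),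
      GoodBase R₀ ∧ g.Finite ∧ Function.Injective g := by
    intro k₀ _ _
    obtain ⟨s, hs⟩ := PSStructLib.exists_coefficientField R k₀
    obtain ⟨f, hfm, hf0⟩ : ∃ f ∈ maximalIdeal R, f ≠ 0 :=
      Submodule.exists_mem_ne_zero_of_ne_bot fun h => hf (isField_iff_maximalIdeal_eq.2 h)
    obtain ⟨y, hy, hrad⟩ := hsop hfm hf0
    haveI : IsLocalHom s := ⟨fun c hc => isUnit_iff_ne_zero.2 fun h0 => by
      rw [h0, map_zero] at hc; exact not_isUnit_zero hc⟩
    haveI : IsAdicComplete (maximalIdeal (ResidueField R)) (ResidueField R) := by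
      rw [isField_iff_maximalIdeal_eq.1 (Field.toIsField _)]; infer_instance
    obtain ⟨g, hg, hginj, hdom⟩ := NagataCompleteLib.exists_normalization (a := 0) (m := d - 1 + 1) (Λ := ResidueField R) s
      (fun c => ⟨c, hs c⟩) Fin.elim0 (by
        rw [isField_iff_maximalIdeal_eq.1 (Field.toIsField _), Set.range_eq_empty Fin.elim0, Ideal.span_empty])
      (Fin.snoc y f) (fun i => by
        refine Fin.lastCases ?_ (fun j => ?_) i
        · simpa using hfm
        · simpa using hy j)
      (hrad.trans (Ideal.radical_mono (le_sup_of_le_right (Ideal.span_mono (by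
        rintro _ (rfl | ⟨i, rfl⟩)
        · exact ⟨Fin.last _, by simp⟩
        · exact ⟨i.castSucc, by simp⟩)))))
      hd (by omega)
    exact ⟨MvPowerSeries (Fin (d - 1 + 1)) (ResidueField R), inferInstance, hdom, inferInstance, inferInstance, g,
      goodBase_powerSeries _ _, hg, hginj⟩
  obtain ⟨p, hp⟩ := CharP.exists R
  rcases CharP.char_is_prime_or_zero R p with hpr | rfl
  · haveI := Fact.mk hpr
    exact @equi (ULift.{u} (ZMod p)) _ (((ZMod.castHom (dvd_refl p) R).comp
      ULift.ringEquiv.toRingHom).toAlgebra)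
  haveI : CharZero R := CharP.charP_to_charZero R
  obtain ⟨q, hq⟩ := CharP.exists (ResidueField R)
  rcases CharP.char_is_prime_or_zero (ResidueField R) q with hqp | rfl
  swap
  · haveI : CharZero (ResidueField R) := CharP.charP_to_charZero _
    let j : ℚ →+* R := IsLocalization.lift (M := nonZeroDivisors ℤ) (g := Int.castRingHom R) fun z => by
      by_contra hu
      have : (Int.castRingHom R z.1) ∈ maximalIdeal R := hu
      rw [← residue_eq_zero_iff, eq_intCast, map_intCast, Int.cast_eq_zero] at this
      exact nonZeroDivisors.coe_ne_zero z this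
    exact @equi (ULift.{u} ℚ) _ ((j.comp ULift.ringEquiv.toRingHom).toAlgebra)
  -- mixed characteristic
  have hqm : (q : R) ∈ maximalIdeal R := by
    rw [← residue_eq_zero_iff, map_natCast, CharP.cast_eq_zero]
  obtain ⟨W, _, _, hW, hW', ⟨e⟩⟩ := CohenRingLib.exists_cohenRing (ResidueField R)
  obtain ⟨v, hv, hve⟩ := CohenRingLib.exists_lift_residue hW e.toRingHom
  haveI := hv
  haveI := CohenRingLib.isDomain_of_cohen hW
  haveI := CohenRingLib.noetherian_of_cohen hW
  haveI := CohenRingLib.isAdicComplete_of_cohen hW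
  haveI : CharP (ResidueField W) q := charP_of_injective_ringHom (f := e.symm.toRingHom) e.symm.injective q
  obtain ⟨y, hy, hrad⟩ := hsop hqm (Nat.cast_ne_zero.2 hqp.ne_zero)
  obtain ⟨g, hg, hginj, hdom⟩ := NagataCompleteLib.exists_normalization (a := 1) (m := d - 1) v
    (fun c => by
      obtain ⟨w, hw⟩ := residue_surjective (e.symm c)
      exact ⟨w, by rw [RingHom.comp_apply, hve, hw]; simp⟩)
    (fun _ => (q : W)) (by rw [Set.range_const, CohenRingLib.maximalIdeal_of_cohen hW q])
    y hy
    (hrad.trans (Ideal.radical_mono (Ideal.span_le.2 (by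
      rintro _ (rfl | ⟨i, rfl⟩)
      · refine Ideal.mem_sup_left ?_
        rw [CohenRingLib.maximalIdeal_of_cohen hW q, Ideal.map_span, Set.image_singleton, map_natCast]
        exact Ideal.mem_span_singleton_self _
      · exact Ideal.mem_sup_right (Ideal.subset_span ⟨i, rfl⟩)))))
    hd (by omega)
  let R0 := MvPowerSeries (Fin (d - 1)) W
  haveI : IsDomain R0 := hdom
  haveI : IsRegularRing W := by
    rcases hW with ⟨hf, -⟩ | ⟨_, hdvr, -⟩
    · letI := hf.toField; infer_instance
    · haveI := hdvr; infer_instance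
  haveI : IsRegularRing R0 := S5784.result W (d - 1)
  haveI : CharZero R0 := ⟨fun a b h => Nat.cast_injective (R := R) (by simpa using congrArg g h)⟩
  exact ⟨R0, inferInstance, inferInstance, inferInstance, inferInstance, g, Or.inl inferInstance, hg, hginj⟩

/-- Transport of regularity over the generic point. -/
theorem regular_of_algEquiv (B T T' : Type u) [CommRing B] [CommRing T] [CommRing T'] [Algebra B T] [Algebra B T']
    (e : T ≃ₐ[B] T') (h : ∀ (Q : Ideal T') [Q.IsPrime], Q.comap (algebraMap B T') = ⊥ → RegAt T' Q)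
    (q : Ideal T) [q.IsPrime] (hq : q.comap (algebraMap B T) = ⊥) : IsRegularLocalRing (Localization.AtPrime q) := by
  let Q := q.comap e.symm.toRingEquiv.toRingHom
  haveI : Q.IsPrime := Ideal.IsPrime.comap _
  haveI : IsRegularLocalRing (Localization.AtPrime Q) := h Q (by
    ext b
    rw [← hq]
    show e.symm (algebraMap B T' b) ∈ q ↔ _
    rw [e.symm.commutes, Ideal.mem_comap])
  exact IsRegularLocalRing.of_ringEquiv (R := Localization.AtPrime Q)
    (IsLocalization.ringEquivOfRingEquiv (Localization.AtPrime Q) (Localization.AtPrime q)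
      (M := Q.primeCompl) (T := q.primeCompl) e.symm.toRingEquiv (by
        ext y
        simp only [Submonoid.mem_map, Ideal.mem_primeCompl_iff]
        exact ⟨fun ⟨x, hx, hxy⟩ => hxy ▸ hx, fun hy => ⟨e y, fun h => hy (by
          have : e.symm (e y) ∈ q := h
          rwa [e.symm_apply_apply] at this), e.symm_apply_apply y⟩⟩))

/-- Comparison of completed fibres along two surjections onto `R₁`. -/
theorem regular_compare (S M R₁ B : Type u) [CommRing S] [IsNoetherianRing S] [CommRing M] [IsNoetherianRing M]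
    [CommRing R₁] [CommRing B] [Algebra S R₁] [Algebra M R₁] (hS : Function.Surjective (algebraMap S R₁))
    (hM : Function.Surjective (algebraMap M R₁)) (P : Ideal R₁) [P.IsPrime] [Algebra R₁ B] [Algebra S B] [Algebra M B]
    [IsScalarTower S R₁ B] [IsScalarTower M R₁ B]
    (h : ∀ (Q : Ideal (B ⊗[M] EGA4.Cpl (Localization.AtPrime (P.comap (algebraMap M R₁))))) [Q.IsPrime],
      Q.comap (algebraMap B (B ⊗[M] EGA4.Cpl (Localization.AtPrime (P.comap (algebraMap M R₁))))) = ⊥ →
        RegAt (B ⊗[M] EGA4.Cpl (Localization.AtPrime (P.comap (algebraMap M R₁)))) Q)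
    (q : Ideal (B ⊗[S] EGA4.Cpl (Localization.AtPrime (P.comap (algebraMap S R₁))))) [q.IsPrime]
    (hq : q.comap (algebraMap B (B ⊗[S] EGA4.Cpl (Localization.AtPrime (P.comap (algebraMap S R₁))))) = ⊥) :
    RegAt (B ⊗[S] EGA4.Cpl (Localization.AtPrime (P.comap (algebraMap S R₁)))) q := by
  obtain ⟨e1⟩ := exists_quotCompl S R₁ hS P
  obtain ⟨e2⟩ := exists_quotCompl M R₁ hM P
  exact regular_of_algEquiv B _ _ ((Algebra.TensorProduct.cancelBaseChange S R₁ B B _).symm.trans
    ((Algebra.TensorProduct.congr AlgEquiv.refl (e1.trans e2.symm)).trans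
      (Algebra.TensorProduct.cancelBaseChange M R₁ B B _))) (fun Q _ hQ => h Q hQ) q hq

/-- The key case, with the image of `S` in `B` named. -/
theorem regular_generic_fibre_aux (A : Type u) [CommRing A] [IsLocalRing A] [IsNoetherianRing A]
    [IsAdicComplete (maximalIdeal A) A] (S R₁ B : Type u) [CommRing S] [IsNoetherianRing S] [CommRing R₁]
    [Algebra A R₁] [Algebra.FiniteType A R₁] [Algebra S R₁] (hf : Function.Surjective (algebraMap S R₁))
    (P : Ideal R₁) [P.IsPrime] [CommRing B] [IsDomain B] [Algebra R₁ B] [Module.Finite R₁ B] [Algebra S B]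
    [IsScalarTower S R₁ B] (hinjR₁ : Function.Injective (algebraMap R₁ B))
    (q : Ideal (B ⊗[S] EGA4.Cpl (Localization.AtPrime (P.comap (algebraMap S R₁))))) [q.IsPrime]
    (hq : q.comap (algebraMap B (B ⊗[S] EGA4.Cpl (Localization.AtPrime (P.comap (algebraMap S R₁))))) = ⊥) :
    RegAt (B ⊗[S] EGA4.Cpl (Localization.AtPrime (P.comap (algebraMap S R₁)))) q := by
  classical
  -- the base
  let 𝔞 := RingHom.ker (algebraMap R₁ B |>.comp (algebraMap A R₁))
  haveI : 𝔞.IsPrime := RingHom.ker_isPrime _
  haveI : IsLocalRing (A ⧸ 𝔞) := IsLocalRing.of_surjective' (Ideal.Quotient.mk 𝔞) Ideal.Quotient.mk_surjective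
  haveI := FiniteCompleteLib.isAdicComplete_maximalIdeal A (A ⧸ 𝔞)
  obtain ⟨R, _, _, _, _, g, hgood, hgfin, hginj⟩ := exists_base (A ⧸ 𝔞)
  let φ : A ⧸ 𝔞 →+* R₁ := Ideal.Quotient.lift 𝔞 (algebraMap A R₁) fun a ha => hinjR₁ (by
    rw [map_zero]; exact ha)
  have hφft : φ.FiniteType := RingHom.FiniteType.of_comp_finiteType (f := Ideal.Quotient.mk 𝔞) (by
    rw [Ideal.Quotient.lift_comp_mk]
    exact RingHom.finiteType_algebraMap.2 inferInstance)
  letI : Algebra R R₁ := (φ.comp g).toAlgebra
  haveI : Algebra.FiniteType R R₁ := RingHom.finiteType_algebraMap.1 (hφft.comp hgfin.finiteType)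
  obtain ⟨m, u, hu⟩ := Algebra.FiniteType.iff_quotient_mvPolynomial''.1 (inferInstance : Algebra.FiniteType R R₁)
  let M := MvPolynomial (Fin m) R
  letI : Algebra M R₁ := u.toRingHom.toAlgebra
  letI : Algebra M B := ((algebraMap R₁ B).comp u.toRingHom).toAlgebra
  haveI : IsScalarTower M R₁ B := IsScalarTower.of_algebraMap_eq fun _ => rfl
  haveI : Module.Finite M R₁ := RingHom.finite_algebraMap.1 (RingHom.Finite.of_surjective _ hu)
  haveI : Module.Finite M B := Module.Finite.trans R₁ B
  haveI : IsNoetherianRing M := inferInstanceAs (IsNoetherianRing (MvPolynomial (Fin m) R))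
  obtain ⟨l, π, hπ⟩ := Algebra.FiniteType.iff_quotient_mvPolynomial''.1 (inferInstance : Algebra.FiniteType M B)
  refine regular_compare S M R₁ B hf hu P (fun Q _ hQ => ?_) q hq
  refine isRegularLocalRing_generic (σ := Fin m) (ρ := Fin l) hgood (P.comap (algebraMap M R₁)) B π hπ ?_ Q hQ
  intro a b hab
  apply hginj
  obtain ⟨a', ha'⟩ := Ideal.Quotient.mk_surjective (g a)
  obtain ⟨b', hb'⟩ := Ideal.Quotient.mk_surjective (g b)
  have h : ∀ r, algebraMap M B (MvPolynomial.C r) = algebraMap R₁ B (φ (g r)) := fun r => by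
    show algebraMap R₁ B (u (MvPolynomial.C r)) = _
    rw [← MvPolynomial.algebraMap_eq, AlgHom.commutes]; rfl
  rw [RingHom.comp_apply, RingHom.comp_apply, h, h, ← ha', ← hb'] at hab
  rw [← ha', ← hb']
  refine Ideal.Quotient.eq.2 ?_
  show algebraMap R₁ B (algebraMap A R₁ (a' - b')) = 0
  rw [map_sub, map_sub, sub_eq_zero]
  exact hab

/-- The key case: generic fibres of completed local rings of finite type algebras over a complete ring. -/
theorem regular_generic_fibre (A : Type u) [CommRing A] [IsLocalRing A] [IsNoetherianRing A]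
    [IsAdicComplete (maximalIdeal A) A] (S : Type u) [CommRing S] [IsNoetherianRing S] [Algebra A S] [Algebra.FiniteType A S]
    (P' : Ideal S) [P'.IsPrime] (B : Type u) [CommRing B] [IsDomain B] [Algebra S B] [Module.Finite S B]
    (q : Ideal (B ⊗[S] EGA4.Cpl (Localization.AtPrime P'))) [q.IsPrime]
    (hq : q.comap (algebraMap B (B ⊗[S] EGA4.Cpl (Localization.AtPrime P'))) = ⊥) :
    RegAt (B ⊗[S] EGA4.Cpl (Localization.AtPrime P')) q := by
  classical
  let E := EGA4.Cpl (Localization.AtPrime P')
  let J := RingHom.ker (algebraMap S B)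
  let R₁ := S ⧸ J
  let f : S →+* R₁ := Ideal.Quotient.mk J
  have hf : Function.Surjective f := Ideal.Quotient.mk_surjective
  have hJP : J ≤ P' := by
    intro j hj
    by_contra hjP
    refine (inferInstance : q.IsPrime).ne_top (q.eq_top_iff_one.2 ?_)
    obtain ⟨w, hw⟩ : IsUnit (algebraMap S E j) := by
      rw [IsScalarTower.algebraMap_apply S (Localization.AtPrime P') E]
      exact (IsLocalization.map_units (Localization.AtPrime P') (⟨j, hjP⟩ : P'.primeCompl)).map _
    have h0 : (1 : B) ⊗ₜ[S] algebraMap S E j = 0 := by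
      rw [Algebra.algebraMap_eq_smul_one, ← TensorProduct.smul_tmul, Algebra.smul_def, mul_one,
        RingHom.mem_ker.1 hj, TensorProduct.zero_tmul]
    have h1 : ((1 : B) ⊗ₜ[S] algebraMap S E j) * ((1 : B) ⊗ₜ[S] (↑w⁻¹ : E)) = 1 := by
      rw [Algebra.TensorProduct.tmul_mul_tmul, one_mul, ← hw, Units.mul_inv]; rfl
    rw [h0, zero_mul] at h1
    rw [← h1]; exact q.zero_mem
  let P := P'.map f
  haveI : P.IsPrime := Ideal.map_isPrime_of_surjective hf (by rwa [Ideal.mk_ker])
  have hPP : P' = P.comap (algebraMap S R₁) := by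
    show P' = P.comap f
    rw [Ideal.comap_map_of_surjective f hf, ← RingHom.ker_eq_comap_bot, Ideal.mk_ker, sup_eq_left.2 hJP]
  letI : Algebra R₁ B := (RingHom.kerLift (algebraMap S B)).toAlgebra
  haveI : IsScalarTower S R₁ B := IsScalarTower.of_algebraMap_eq fun _ => rfl
  haveI : Module.Finite R₁ B := Module.Finite.of_restrictScalars_finite S _ _
  haveI : Algebra.FiniteType A R₁ := Algebra.FiniteType.of_surjective (Ideal.Quotient.mkₐ A J) hf
  exact (show ∀ (I : Ideal S) (_ : I.IsPrime), I = P.comap (algebraMap S R₁) →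
      ∀ (q : Ideal (B ⊗[S] EGA4.Cpl (Localization.AtPrime I))) [q.IsPrime],
        q.comap (algebraMap B (B ⊗[S] EGA4.Cpl (Localization.AtPrime I))) = ⊥ →
          RegAt (B ⊗[S] EGA4.Cpl (Localization.AtPrime I)) q from
    fun I _ hI => by
      subst hI
      exact fun q _ hq => regular_generic_fibre_aux A S R₁ B hf P (RingHom.kerLift_injective _) q hq)
    P' inferInstance hPP q hq

/-- Formal fibres of finite type algebras over complete Noetherian local rings are geometrically regular. -/
theorem isGRing_finiteType (A : Type u) [CommRing A] [IsLocalRing A] [IsNoetherianRing A]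
    [IsAdicComplete (maximalIdeal A) A] (S : Type u) [CommRing S] [Algebra A S] [Algebra.FiniteType A S] :
    CAlg.IsGRing S := by
  haveI : IsNoetherianRing S := Algebra.FiniteType.isNoetherianRing A S
  refine ⟨inferInstance, fun P' _ => ?_⟩
  let L := Localization.AtPrime P'
  let E := EGA4.Cpl L
  haveI : IsNoetherianRing L := IsLocalization.isNoetherianRing P'.primeCompl _ inferInstance
  haveI : IsNoetherianRing E := inferInstance
  haveI : Module.Flat L E := inferInstance
  haveI : Module.Flat S E := Module.Flat.trans S L E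
  have h1 : CAlg.IsRegularHom S E := (RegDesc.isRegularHom_iff_finite_domains S E).2
    fun B _ _ _ _ q _ hq => regular_generic_fibre A S P' B q hq
  haveI : IsNoetherianRing (L ⊗[S] E) := RegDesc.isNoetherianRing_tensor_essFiniteType S L E
  have h2 := RegDesc.isRegularHom_baseChange S E L h1
  haveI := IsLocalization.tensorProduct_compatibleSMul P'.primeCompl L L E
  let φ : L ⊗[S] E ≃ₐ[L] E :=
    (Algebra.TensorProduct.equivOfCompatibleSMul L S L L E).trans (Algebra.TensorProduct.lid L E)
  exact ExcLib.isRegularHom_of_ringEquiv (RingEquiv.refl L) φ.toRingEquiv (fun a => φ.commutes a) h2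

end Groth.Agent.GRingCompleteLib
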