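import Groth.Agent.GRingCompleteLib.Descend
import Groth.Agent.S9232

/-!
# Completions of G-rings along ideals
-/

set_option autoImplicit false
set_option backward.isDefEq.respectTransparency false
set_option maxHeartbeats 1000000
universe u

open IsLocalRing TensorProduct

namespace Groth.Agent.GRingCompleteLib

/-- A flat map from a G-ring which induces isomorphisms of completions at the maximal ideals is regular. -/
theorem isRegularHom_of_same_completions (A C : Type u) [CommRing A] [CommRing C] [IsNoetherianRing C] [Algebra A C]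
    [Module.Flat A C] (hA : CAlg.IsGRing A)
    (h : ∀ (n : Ideal C) [n.IsMaximal], (n.comap (algebraMap A C)).map (algebraMap A C) = n ∧
      ∀ c : C, ∃ a : A, c - algebraMap A C a ∈ n) : CAlg.IsRegularHom A C := by
  haveI := hA.1
  refine RegHomLib.isRegularHom_of_maximal fun n hn => ?_
  obtain ⟨hgen, hres⟩ := h n
  let m := Ideal.comap (algebraMap A C) n
  let Am := Localization.AtPrime m
  let Cn := Localization.AtPrime n
  letI : Algebra Am Cn := (Localization.localRingHom m n (algebraMap A C) rfl).toAlgebra
  haveI : IsScalarTower A Am Cn := IsScalarTower.of_algebraMap_eq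
    fun r => (Localization.localRingHom_to_map m n (algebraMap A C) rfl r).symm
  haveI : IsLocalHom (algebraMap Am Cn) := Localization.isLocalHom_localRingHom m n (algebraMap A C) rfl
  haveI : IsNoetherianRing Am := IsLocalization.isNoetherianRing m.primeCompl _ inferInstance
  haveI : IsNoetherianRing Cn := IsLocalization.isNoetherianRing n.primeCompl _ inferInstance
  haveI : Module.Flat C Cn := IsLocalization.flat Cn n.primeCompl
  haveI : Module.Flat A Cn := Module.Flat.trans A C Cn
  haveI : Module.Flat Am Cn := (Module.flat_iff_of_isLocalization Am m.primeCompl Cn).2 inferInstance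
  have hm : (maximalIdeal Am).map (algebraMap Am Cn) = maximalIdeal Cn := by
    rw [← Localization.AtPrime.map_eq_maximalIdeal, Ideal.map_map, ← IsScalarTower.algebraMap_eq,
      IsScalarTower.algebraMap_eq A C Cn, ← Ideal.map_map, hgen, Localization.AtPrime.map_eq_maximalIdeal]
  have hk : Function.Bijective (IsLocalRing.ResidueField.map (algebraMap Am Cn)) := by
    refine ⟨(IsLocalRing.ResidueField.map (algebraMap Am Cn)).injective, fun y => ?_⟩
    obtain ⟨y, rfl⟩ := residue_surjective y
    obtain ⟨c, s, rfl⟩ := IsLocalization.exists_mk'_eq n.primeCompl y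
    obtain ⟨a, ha⟩ := hres c
    obtain ⟨b, hb⟩ := hres s
    have hbm : b ∉ m := fun hbm => s.2 (by simpa using add_mem hb (show algebraMap A C b ∈ n from hbm))
    let x := IsLocalization.mk' Am a (⟨b, hbm⟩ : m.primeCompl)
    refine ⟨residue Am x, ?_⟩
    rw [IsLocalRing.ResidueField.map_residue, ← sub_eq_zero, ← map_sub, residue_eq_zero_iff]
    have hx : algebraMap Am Cn x * algebraMap C Cn (algebraMap A C b) = algebraMap C Cn (algebraMap A C a) := by
      rw [← IsScalarTower.algebraMap_apply A C Cn, ← IsScalarTower.algebraMap_apply A C Cn,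
        IsScalarTower.algebraMap_apply A Am Cn, IsScalarTower.algebraMap_apply A Am Cn, ← map_mul]
      exact congrArg _ (IsLocalization.mk'_spec Am a (⟨b, hbm⟩ : m.primeCompl))
    have hy : IsLocalization.mk' Cn c s * algebraMap C Cn (s : C) = algebraMap C Cn c := IsLocalization.mk'_spec Cn c s
    have hu : IsUnit (algebraMap C Cn (algebraMap A C b)) :=
      IsLocalization.map_units Cn (⟨algebraMap A C b, hbm⟩ : n.primeCompl)
    have hmem : ∀ z ∈ n, algebraMap C Cn z ∈ maximalIdeal Cn := fun z hz =>
      (IsLocalization.AtPrime.to_map_mem_maximal_iff Cn n z).2 hz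
    refine (Ideal.unit_mul_mem_iff_mem _ hu).1 ?_
    have he : algebraMap C Cn (algebraMap A C b) * (algebraMap Am Cn x - IsLocalization.mk' Cn c s) =
        IsLocalization.mk' Cn c s * algebraMap C Cn ((s : C) - algebraMap A C b) -
          algebraMap C Cn (c - algebraMap A C a) := by
      rw [map_sub, map_sub, ← hx]
      linear_combination -hy
    rw [he]
    exact sub_mem (Ideal.mul_mem_left _ _ (hmem _ hb)) (hmem _ ha)
  obtain ⟨_, hn', _, _, _⟩ := RatliffLib.compl_facts Cn
  haveI := hn'
  obtain ⟨_, hnm, _, _, _⟩ := RatliffLib.compl_facts Am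
  obtain ⟨alg, htower, hff⟩ := exists_completion_cover Am Cn
  have hψ : Function.Bijective (algebraMap (EGA4.Cpl Am) (EGA4.Cpl Cn)) := S9232.result Am Cn hm hk _ (by
    rw [← IsScalarTower.algebraMap_eq, ← IsScalarTower.algebraMap_eq])
  haveI : IsScalarTower Am Cn (EGA4.Cpl Cn) := inferInstance
  haveI : Module.Flat Cn (EGA4.Cpl Cn) := AdicCompletion.flat_of_isNoetherian _
  obtain ⟨_, _, _, _, _⟩ := RatliffLib.compl_facts Cn
  haveI : Module.FaithfullyFlat Cn (EGA4.Cpl Cn) := Module.FaithfullyFlat.of_flat_of_isLocalHom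
  have h1 : CAlg.IsRegularHom Am (EGA4.Cpl Cn) := ExcLib.isRegularHom_of_ringEquiv (RingEquiv.refl Am)
    (RingEquiv.ofBijective _ hψ) (fun a => (IsScalarTower.algebraMap_apply Am (EGA4.Cpl Am) (EGA4.Cpl Cn) a).symm)
    (hA.2 m)
  exact RegDesc.isRegularHom_of_comp Am Cn (EGA4.Cpl Cn) h1

/-- The completion of a G-ring along an ideal is regular over it. -/
theorem isRegularHom_adicCompletion (A : Type u) [CommRing A] (hA : CAlg.IsGRing A) (I : Ideal A) :
    CAlg.IsRegularHom A (AdicCompletion I A) := by
  haveI := hA.1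
  have fg := I.fg_of_isNoetherianRing
  haveI : IsNoetherianRing (AdicCompletion I A) := RegLocal.isNoetherianRing_completion A I
  haveI : Module.Flat A (AdicCompletion I A) := AdicCompletion.flat_of_isNoetherian I
  haveI := AdicCompletion.isAdicComplete_self I fg
  refine isRegularHom_of_same_completions A _ hA fun n hn => ?_
  have hIn : I.map (algebraMap A (AdicCompletion I A)) ≤ n :=
    (IsAdicComplete.le_jacobson_bot _).trans <| sInf_le ⟨bot_le, hn⟩
  have key : ∀ c : AdicCompletion I A, ∃ a : A, c - algebraMap A _ a ∈ I.map (algebraMap A (AdicCompletion I A)) := by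
    intro c
    obtain ⟨a, ha⟩ := Ideal.Quotient.mk_surjective (AdicCompletion.evalOneₐ I c)
    refine ⟨a, ?_⟩
    rw [← AdicCompletion.ker_evalOneₐ_eq_map I fg, RingHom.mem_ker, map_sub, sub_eq_zero]
    exact ha.symm.trans ((AdicCompletion.evalOneₐ I).commutes a).symm
  refine ⟨le_antisymm Ideal.map_comap_le fun c hc => ?_, fun c => ?_⟩
  · obtain ⟨a, ha⟩ := key c
    have hI : I ≤ n.comap (algebraMap A (AdicCompletion I A)) := Ideal.map_le_iff_le_comap.1 hIn
    have hamem : algebraMap A _ a ∈ n := by simpa using sub_mem hc (hIn ha)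
    have := add_mem (Ideal.map_mono hI ha) (Ideal.mem_map_of_mem (algebraMap A (AdicCompletion I A))
      (show a ∈ n.comap (algebraMap A (AdicCompletion I A)) from hamem))
    simpa using this
  · obtain ⟨a, ha⟩ := key c
    exact ⟨a, hIn ha⟩

end Groth.Agent.GRingCompleteLib
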