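import Groth.Agent.CMFlatLib.FlatLocal
import Groth.Agent.FlatDepth.Fibres
import Groth.Agent.RegHomLib.Local
import Mathlib.FieldTheory.FinTrdeg

/-!
# Cohen–Macaulay algebras stay Cohen–Macaulay after finitely generated field extensions
-/

set_option autoImplicit false
set_option backward.isDefEq.respectTransparency false
set_option maxHeartbeats 1000000
universe u

open IsLocalRing TensorProduct

namespace Groth.Agent.GRingCompleteLib

/-- Localizations of Cohen–Macaulay rings are Cohen–Macaulay. -/
theorem cm_of_isLocalization {R S : Type u} [CommRing R] [CommRing S] [Algebra R S] (M : Submonoid R)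
    [IsLocalization M S] [LocCoh.IsCohenMacaulayRing R] : LocCoh.IsCohenMacaulayRing S :=
  { IsLocalization.isNoetherianRing M S inferInstance with
    isCohenMacaulayLocalRing_localization := fun P _ => by
      let p : Ideal R := P.under R
      haveI : IsLocalization.AtPrime (Localization.AtPrime P) p :=
        IsLocalization.isLocalization_isLocalization_atPrime_isLocalization M (Localization.AtPrime P) P
      haveI := LocCoh.IsCohenMacaulayRing.isCohenMacaulayLocalRing_localization (R := R) p
      exact CMCat.isCohenMacaulayLocalRing_of_ringEquiv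
        (IsLocalization.algEquiv p.primeCompl (Localization.AtPrime p) (Localization.AtPrime P)).toRingEquiv }

/-- Artinian rings are Cohen–Macaulay. -/
theorem cm_artinianRing (R : Type u) [CommRing R] [IsArtinianRing R] : LocCoh.IsCohenMacaulayRing R :=
  { (inferInstance : IsNoetherianRing R) with
    isCohenMacaulayLocalRing_localization := fun p _ => CMFlatLib.cm_of_artinian (Localization.AtPrime p) }

/-- Rational function fields. -/
theorem cm_tensor_fractionRing (k : Type u) [Field k] (ι : Type u) [Finite ι] (F : Type u) [Field F]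
    [Algebra k F] [Algebra (MvPolynomial ι k) F] [IsScalarTower k (MvPolynomial ι k) F]
    [IsFractionRing (MvPolynomial ι k) F]
    (R : Type u) [CommRing R] [Algebra k R] [LocCoh.IsCohenMacaulayRing R] :
    LocCoh.IsCohenMacaulayRing (F ⊗[k] R) := by
  let P := MvPolynomial ι k
  let S := P ⊗[k] R
  obtain ⟨n, ⟨e⟩⟩ := Finite.exists_equiv_fin ι
  haveI := CMCat.isCohenMacaulayRing_mvPolynomial (R := R) n
  haveI : LocCoh.IsCohenMacaulayRing (MvPolynomial ι R) :=
    CMCat.isCohenMacaulayRing_of_ringEquiv (MvPolynomial.renameEquiv R e).symm.toRingEquiv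
  haveI : LocCoh.IsCohenMacaulayRing S := CMCat.isCohenMacaulayRing_of_ringEquiv
    ((MvPolynomial.algebraTensorAlgEquiv (σ := ι) k R).toRingEquiv.symm.trans
      (Algebra.TensorProduct.comm k R P).toRingEquiv)
  letI : Algebra S (F ⊗[P] S) := Algebra.TensorProduct.rightAlgebra
  haveI : IsLocalization (Algebra.algebraMapSubmonoid S (nonZeroDivisors P)) (F ⊗[P] S) :=
    IsLocalization.tensorRight F (nonZeroDivisors P)
  haveI : LocCoh.IsCohenMacaulayRing (F ⊗[P] S) := cm_of_isLocalization (Algebra.algebraMapSubmonoid S (nonZeroDivisors P))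
  exact CMCat.isCohenMacaulayRing_of_ringEquiv (Algebra.TensorProduct.cancelBaseChange k P F F R).toRingEquiv

/-- Finite field extensions. -/
theorem cm_tensor_finite_field (k K : Type u) [Field k] [Field K] [Algebra k K] [Module.Finite k K]
    (R : Type u) [CommRing R] [Algebra k R] [LocCoh.IsCohenMacaulayRing R] :
    LocCoh.IsCohenMacaulayRing (K ⊗[k] R) := by
  haveI : Module.Finite R (R ⊗[k] K) := inferInstance
  haveI : IsNoetherianRing (R ⊗[k] K) := IsNoetherianRing.of_finite R _
  haveI : LocCoh.IsCohenMacaulayRing (R ⊗[k] K) := FlatDepth.cm_ascend R (R ⊗[k] K) fun p _ =>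
    haveI : IsArtinianRing (p.Fiber (R ⊗[k] K)) := IsArtinianRing.of_finite p.ResidueField _
    cm_artinianRing _
  exact CMCat.isCohenMacaulayRing_of_ringEquiv (Algebra.TensorProduct.comm k R K).toRingEquiv

/-- Finitely generated field extensions. -/
theorem cm_tensor_field (k K : Type u) [Field k] [Field K] [Algebra k K] [Algebra.EssFiniteType k K]
    (R : Type u) [CommRing R] [Algebra k R] [LocCoh.IsCohenMacaulayRing R] :
    LocCoh.IsCohenMacaulayRing (K ⊗[k] R) := by
  obtain ⟨s, hs⟩ := exists_isTranscendenceBasis k K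
  haveI : Finite s := finite_of_isTranscendenceBasis hs
  let K₀ := IntermediateField.adjoin k (Set.range ((↑) : s → K))
  haveI : Algebra.IsAlgebraic K₀ K := hs.isAlgebraic_field
  haveI : Algebra.EssFiniteType K₀ K := Algebra.EssFiniteType.of_comp k K₀ K
  haveI : Module.Finite K₀ K := Algebra.finite_of_essFiniteType_of_isAlgebraic
  haveI := cm_tensor_fractionRing k s (FractionRing (MvPolynomial s k)) R
  haveI : LocCoh.IsCohenMacaulayRing (K₀ ⊗[k] R) := CMCat.isCohenMacaulayRing_of_ringEquiv
    (Algebra.TensorProduct.congr hs.1.aevalEquivField (AlgEquiv.refl : R ≃ₐ[k] R)).toRingEquiv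
  haveI := cm_tensor_finite_field K₀ K (K₀ ⊗[k] R)
  exact CMCat.isCohenMacaulayRing_of_ringEquiv (Algebra.TensorProduct.cancelBaseChange k K₀ K K R).toRingEquiv

end Groth.Agent.GRingCompleteLib
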