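import Groth.Agent.GRingCompleteLib.Descend
import Groth.Agent.GRingCompleteLib.CMField
import Groth.Agent.GeomRedFib.Basic
import Groth.Agent.NormalTensor.Hom
import Groth.Agent.NormalTensor.Finite
import Groth.Agent.PurityLib.Normal

/-!
# Geometrically reduced, geometrically normal and Cohen–Macaulay formal fibres of local algebras
essentially of finite type
-/

set_option autoImplicit false
set_option backward.isDefEq.respectTransparency false
set_option maxHeartbeats 1000000
universe u

open IsLocalRing TensorProduct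

namespace Groth.Agent.GRingCompleteLib

/-- A localization on both sides, tensored with a field over the localized source. -/
theorem exists_tensor_localization (A T B C K : Type u) [CommRing A] [CommRing T] [CommRing B] [CommRing C]
    [CommRing K] [Algebra A T] [Algebra A B] [Algebra T C] [Algebra B C] [Algebra A C] [IsScalarTower A T C]
    [IsScalarTower A B C] (S : Submonoid A) [IsLocalization S B] (M : Submonoid T) [IsLocalization M C]
    [Algebra B K] [Algebra A K] [IsScalarTower A B K] :
    ∃ (alg : Algebra (K ⊗[A] T) (K ⊗[B] C)) (M' : Submonoid (K ⊗[A] T)), @IsLocalization _ _ M' (K ⊗[B] C) _ alg := by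
  letI : Algebra T (K ⊗[A] T) := Algebra.TensorProduct.rightAlgebra
  letI : Algebra (K ⊗[A] T) (K ⊗[A] C) :=
    (Algebra.TensorProduct.map (AlgHom.id A K) (IsScalarTower.toAlgHom A T C)).toRingHom.toAlgebra
  haveI := RegHomLib.isLocalization_tensor A K T C M
  haveI := IsLocalization.tensorProduct_compatibleSMul S B K C
  let e : K ⊗[A] C ≃+* K ⊗[B] C := (Algebra.TensorProduct.equivOfCompatibleSMul B A A K C).toRingEquiv
  letI alg : Algebra (K ⊗[A] T) (K ⊗[B] C) := (e.toRingHom.comp (algebraMap (K ⊗[A] T) (K ⊗[A] C))).toAlgebra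
  refine ⟨alg, Algebra.algebraMapSubmonoid (K ⊗[A] T) M, ?_⟩
  exact IsLocalization.isLocalization_of_algEquiv _ (AlgEquiv.ofRingEquiv (f := e) fun _ => rfl)

theorem isReduced_of_iso {X Y : Type u} [CommRing X] [CommRing Y] (e : X ≃+* Y) [IsReduced X] : IsReduced Y :=
  isReduced_of_injective e.symm e.symm.injective

section Cover

variable (B₀ B T : Type u) [CommRing B₀] [CommRing B] [IsLocalRing B] [IsNoetherianRing B] [CommRing T]
  [Algebra B₀ B] (q : Ideal B₀) [q.IsPrime] [IsLocalization.AtPrime B q] [Algebra B₀ T]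
  [Module.FaithfullyFlat B₀ T]

include q in
/-- Geometrically reduced formal fibres via a cover. -/
theorem fieldReduced_completion_of_cover (hT : CAlg.IsGRing T) (h : GeomRedFib.FieldReduced B₀ T) :
    GeomRedFib.FieldReduced B (EGA4.Cpl B) := by
  obtain ⟨N, hN, alg, htower, hflat, hloc⟩ := exists_local_cover B₀ B T q
  haveI := hT.1
  haveI := hN
  haveI := hflat
  haveI := hloc
  let C := Localization.AtPrime N
  haveI : IsNoetherianRing C := IsLocalization.isNoetherianRing N.primeCompl _ inferInstance
  haveI : IsNoetherianRing (EGA4.Cpl C) := RegLocal.isNoetherianRing_completion C _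
  have h1 : GeomRedFib.FieldReduced B C := fun K _ _ => by
    letI : Algebra B₀ K := ((algebraMap B K).comp (algebraMap B₀ B)).toAlgebra
    haveI : IsScalarTower B₀ B K := IsScalarTower.of_algebraMap_eq fun _ => rfl
    haveI := h K
    haveI : IsReduced (K ⊗[B₀] T) := isReduced_of_iso (Algebra.TensorProduct.comm B₀ T K).toRingEquiv
    obtain ⟨_, M', hM'⟩ := exists_tensor_localization B₀ T B C K q.primeCompl N.primeCompl
    haveI := hM'
    haveI : IsReduced (K ⊗[B] C) := isReduced_localizationPreserves M' (K ⊗[B] C) (by infer_instance)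
    exact isReduced_of_iso (Algebra.TensorProduct.comm B K C).toRingEquiv
  have h2 : CAlg.IsRegularHom C (EGA4.Cpl C) := hT.2 N
  haveI := h2.1
  obtain ⟨alg', htower', hff⟩ := exists_completion_cover B C
  exact GeomRedFib.fieldReduced_of_comp B (EGA4.Cpl B) (EGA4.Cpl C)
    (GeomRedFib.fieldReduced_comp B C (EGA4.Cpl C) h1 (GeomRedFib.fieldReduced_of_isRegularHom h2))

include q in
/-- Geometrically normal formal fibres via a cover. -/
theorem isNormalHom_completion_of_cover (hT : CAlg.IsGRing T) (h : NormalTensor.FieldNormal B₀ T) :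
    EGA4.IsNormalHom B (EGA4.Cpl B) := by
  obtain ⟨N, hN, alg, htower, hflat, hloc⟩ := exists_local_cover B₀ B T q
  haveI := hT.1
  haveI := hN
  haveI := hflat
  haveI := hloc
  let C := Localization.AtPrime N
  haveI : IsNoetherianRing C := IsLocalization.isNoetherianRing N.primeCompl _ inferInstance
  haveI : IsNoetherianRing (EGA4.Cpl C) := RegLocal.isNoetherianRing_completion C _
  have h1 : EGA4.IsNormalHom B C := NormalTensor.isNormalHom_iff.2 ⟨hflat, fun K _ _ => by
    letI : Algebra B₀ K := ((algebraMap B K).comp (algebraMap B₀ B)).toAlgebra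
    haveI : IsScalarTower B₀ B K := IsScalarTower.of_algebraMap_eq fun _ => rfl
    have hK := NormalTensor.isNormalRing_of_ringEquiv (Algebra.TensorProduct.comm B₀ T K).toRingEquiv (h K)
    obtain ⟨_, M', hM'⟩ := exists_tensor_localization B₀ T B C K q.primeCompl N.primeCompl
    haveI := hM'
    exact NormalTensor.isNormalRing_of_ringEquiv (Algebra.TensorProduct.comm B K C).toRingEquiv
      (NormalTensor.isNormalRing_localization M' hK)⟩
  have h2 : CAlg.IsRegularHom C (EGA4.Cpl C) := hT.2 N
  have hR : ∀ (R : Type u) [CommRing R], IsRegularRing R → EGA4.IsNormalRing R := fun R _ hR p _ => by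
    haveI := hR.isRegularLocalRing_localization p
    exact PurityLib.isIntegrallyClosed_of_regular (Localization.AtPrime p)
  have h2' : EGA4.IsNormalHom C (EGA4.Cpl C) := ⟨h2.1, fun p _ k' _ _ hfin => hR _ ((h2.2 p).2 k' hfin)⟩
  obtain ⟨alg', htower', hff⟩ := exists_completion_cover B C
  exact NormalTensor.isNormalHom_of_comp B (EGA4.Cpl B) (EGA4.Cpl C)
    (NormalTensor.isNormalHom_comp B C (EGA4.Cpl C) h1 h2')

/-- All base changes to finitely generated fields are Cohen–Macaulay. -/
def FieldCM (A A' : Type u) [CommRing A] [CommRing A'] [Algebra A A'] : Prop :=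
  ∀ (K : Type u) [Field K] [Algebra A K] [Algebra.EssFiniteType A K], LocCoh.IsCohenMacaulayRing (K ⊗[A] A')

include q in
/-- Cohen–Macaulay formal fibres via a cover. -/
theorem cm_completion_of_cover (hT : CAlg.IsGRing T) (h : FieldCM B₀ T) : EGA4.HasCMFormalFibres B := by
  obtain ⟨N, hN, alg, htower, hflat, hloc⟩ := exists_local_cover B₀ B T q
  haveI := hT.1
  haveI := hN
  haveI := hflat
  haveI := hloc
  let C := Localization.AtPrime N
  haveI : IsNoetherianRing C := IsLocalization.isNoetherianRing N.primeCompl _ inferInstance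
  haveI : IsNoetherianRing (EGA4.Cpl C) := RegLocal.isNoetherianRing_completion C _
  haveI : IsNoetherianRing (EGA4.Cpl B) := RegLocal.isNoetherianRing_completion B _
  have h2 : CAlg.IsRegularHom C (EGA4.Cpl C) := hT.2 N
  haveI := h2.1
  haveI : Module.Flat B (EGA4.Cpl C) := Module.Flat.trans B C (EGA4.Cpl C)
  obtain ⟨alg', htower', hff⟩ := exists_completion_cover B C
  intro p _
  let K := p.ResidueField
  letI : Algebra B₀ K := ((algebraMap B K).comp (algebraMap B₀ B)).toAlgebra
  haveI : IsScalarTower B₀ B K := IsScalarTower.of_algebraMap_eq fun _ => rfl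
  haveI : Algebra.EssFiniteType B₀ B := Algebra.EssFiniteType.of_isLocalization B q.primeCompl
  haveI : Algebra.EssFiniteType B₀ K := Algebra.EssFiniteType.comp B₀ B K
  haveI := h K
  obtain ⟨_, M', hM'⟩ := exists_tensor_localization B₀ T B C K q.primeCompl N.primeCompl
  haveI := hM'
  haveI h1 : LocCoh.IsCohenMacaulayRing (p.Fiber C) := cm_of_isLocalization M'
  exact FlatDepth.cm_of_comp B (EGA4.Cpl B) (EGA4.Cpl C) p
    (FlatDepth.cm_comp B C (EGA4.Cpl C) p h1 fun P _ => FlatDepth.cm_fibres_of_isRegularHom h2 P)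

end Cover

section EssFiniteType

variable (A : Type u) [CommRing A] [IsNoetherianRing A] [IsLocalRing A]
  (B : Type u) [CommRing B] [IsNoetherianRing B] [IsLocalRing B] [Algebra A B] [Algebra.EssFiniteType A B]

theorem hasGeomReducedFormalFibres_essFiniteType (hA : EGA4.HasGeomReducedFormalFibres A) :
    EGA4.HasGeomReducedFormalFibres B := by
  obtain ⟨B₀, q, hq, hft, hloc⟩ := exists_model A B
  haveI := hq
  haveI := hft
  haveI := hloc
  obtain ⟨_, _, _, _, _⟩ := RatliffLib.compl_facts A
  haveI : Module.FaithfullyFlat A (EGA4.Cpl A) := Module.FaithfullyFlat.of_flat_of_isLocalHom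
  have h := GeomRedFib.fieldReduced_of_fibres hA
  refine fun p _ => GeomRedFib.fibres_of_fieldReduced
    (fieldReduced_completion_of_cover B₀ B _ q (isGRing_cover A B₀) fun K _ _ => ?_) p
  letI : Algebra A K := ((algebraMap B₀ K).comp (algebraMap A B₀)).toAlgebra
  haveI : IsScalarTower A B₀ K := IsScalarTower.of_algebraMap_eq fun _ => rfl
  haveI := h K
  exact isReduced_of_iso ((Algebra.TensorProduct.comm A (EGA4.Cpl A) K).toRingEquiv.trans
    ((Algebra.TensorProduct.cancelBaseChange A B₀ K K (EGA4.Cpl A)).toRingEquiv.symm.trans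
      (Algebra.TensorProduct.comm B₀ K (B₀ ⊗[A] EGA4.Cpl A)).toRingEquiv))

theorem hasGeomNormalFormalFibres_essFiniteType (hA : EGA4.HasGeomNormalFormalFibres A) :
    EGA4.HasGeomNormalFormalFibres B := by
  obtain ⟨B₀, q, hq, hft, hloc⟩ := exists_model A B
  haveI := hq
  haveI := hft
  haveI := hloc
  obtain ⟨_, _, _, _, _⟩ := RatliffLib.compl_facts A
  haveI : Module.FaithfullyFlat A (EGA4.Cpl A) := Module.FaithfullyFlat.of_flat_of_isLocalHom
  exact (isNormalHom_completion_of_cover B₀ B _ q (isGRing_cover A B₀)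
    (NormalTensor.fieldNormal_baseChange A (EGA4.Cpl A) B₀ (NormalTensor.fieldNormal_completion (A := A) hA))).2

theorem hasCMFormalFibres_essFiniteType (hA : EGA4.HasCMFormalFibres A) : EGA4.HasCMFormalFibres B := by
  obtain ⟨B₀, q, hq, hft, hloc⟩ := exists_model A B
  haveI := hq
  haveI := hft
  haveI := hloc
  obtain ⟨_, _, _, _, _⟩ := RatliffLib.compl_facts A
  haveI : Module.FaithfullyFlat A (EGA4.Cpl A) := Module.FaithfullyFlat.of_flat_of_isLocalHom
  refine cm_completion_of_cover B₀ B _ q (isGRing_cover A B₀) fun K _ _ _ => ?_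
  letI : Algebra A K := ((algebraMap B₀ K).comp (algebraMap A B₀)).toAlgebra
  haveI : IsScalarTower A B₀ K := IsScalarTower.of_algebraMap_eq fun _ => rfl
  haveI : Algebra.EssFiniteType A K := Algebra.EssFiniteType.comp A B₀ K
  let p := RingHom.ker (algebraMap A K)
  haveI : p.IsPrime := RingHom.ker_isPrime _
  letI : Algebra p.ResidueField K :=
    (Ideal.ResidueField.lift p (algebraMap A K) le_rfl (fun a ha => isUnit_iff_ne_zero.mpr ha)).toAlgebra
  haveI : IsScalarTower A p.ResidueField K := IsScalarTower.of_algebraMap_eq fun a =>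
    (Ideal.ResidueField.lift_algebraMap p (algebraMap A K) le_rfl (fun a ha => isUnit_iff_ne_zero.mpr ha) a).symm
  haveI : Algebra.EssFiniteType p.ResidueField K := Algebra.EssFiniteType.of_comp A p.ResidueField K
  haveI : LocCoh.IsCohenMacaulayRing (p.Fiber (EGA4.Cpl A)) := hA p
  haveI := cm_tensor_field p.ResidueField K (p.Fiber (EGA4.Cpl A))
  exact CMCat.isCohenMacaulayRing_of_ringEquiv
    ((Algebra.TensorProduct.cancelBaseChange A p.ResidueField K K (EGA4.Cpl A)).toRingEquiv.trans
      (Algebra.TensorProduct.cancelBaseChange A B₀ K K (EGA4.Cpl A)).toRingEquiv.symm)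

end EssFiniteType

end Groth.Agent.GRingCompleteLib
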