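import Groth.Agent.RegLocal.Basic
import Groth.Agent.J2CompleteLib.Extend

/-!
# The Jacobian criterion for quotients
-/

set_option autoImplicit false
set_option backward.isDefEq.respectTransparency false
set_option maxHeartbeats 1000000
universe u

open IsLocalRing

namespace Groth.Agent.GRingCompleteLib

/-- Minimal generators of the maximal ideal are independent modulo its square. -/
theorem mem_maximalIdeal_of_minimal (R : Type u) [CommRing R] [IsLocalRing R] [IsNoetherianRing R] {n : ℕ}
    (hn : n = (maximalIdeal R).spanFinrank) (y : Fin n → R) (hy : Ideal.span (Set.range y) = maximalIdeal R)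
    (a : Fin n → R) (ha : ∑ i, a i * y i ∈ maximalIdeal R ^ 2) (j : Fin n) : a j ∈ maximalIdeal R := by
  classical
  by_contra hj
  have hu : IsUnit (a j) := by simpa using hj
  let S := Ideal.span (y '' {i | i ≠ j})
  have hyj : y j ∈ S ⊔ maximalIdeal R ^ 2 := by
    rw [← Finset.add_sum_erase _ _ (Finset.mem_univ j)] at ha
    have h1 : a j * y j ∈ S ⊔ maximalIdeal R ^ 2 := by
      have h2 : ∑ i ∈ Finset.univ.erase j, a i * y i ∈ S := sum_mem fun i hi =>
        S.mul_mem_left _ (Ideal.subset_span ⟨i, Finset.ne_of_mem_erase hi, rfl⟩)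
      have := sub_mem (Ideal.mem_sup_right (S := S) ha) (Ideal.mem_sup_left (T := maximalIdeal R ^ 2) h2)
      rwa [add_sub_cancel_right] at this
    exact (Ideal.unit_mul_mem_iff_mem _ hu).1 h1
  have hle : maximalIdeal R ≤ S := by
    refine Submodule.le_of_le_smul_of_le_jacobson_bot (maximalIdeal R).fg_of_isNoetherianRing
      (I := maximalIdeal R) (maximalIdeal_le_jacobson _) ?_
    rw [smul_eq_mul, ← sq]
    conv_lhs => rw [← hy]
    rw [Ideal.span_le]
    rintro _ ⟨i, rfl⟩
    by_cases hi : i = j
    · exact hi ▸ hyj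
    · exact Ideal.mem_sup_left (Ideal.subset_span ⟨i, hi, rfl⟩)
  have heq : maximalIdeal R = S := le_antisymm hle (hy ▸ Ideal.span_mono (Set.image_subset_range _ _))
  have h3 : (maximalIdeal R).spanFinrank ≤ n - 1 := by
    rw [heq]
    refine (Submodule.spanFinrank_span_le_ncard_of_finite (Set.toFinite _)).trans ?_
    refine (Set.ncard_image_le (Set.toFinite _)).trans ?_
    rw [show ({i | i ≠ j} : Set (Fin n)) = ((Finset.univ.erase j : Finset (Fin n)) : Set (Fin n)) by ext i; simp,
      Set.ncard_coe_finset, Finset.card_erase_of_mem (Finset.mem_univ j), Finset.card_univ, Fintype.card_fin]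
  have := j.pos
  omega

/-- The quotient of a regular local ring by elements independent modulo the square of the maximal ideal. -/
theorem isRegularLocalRing_quot : ∀ (h : ℕ) (R : Type u) [CommRing R] [IsRegularLocalRing R] (f : Fin h → R),
    (∀ i, f i ∈ maximalIdeal R) → (∀ a : Fin h → R, ∑ i, a i * f i ∈ maximalIdeal R ^ 2 → ∀ i, a i ∈ maximalIdeal R) →
    IsRegularLocalRing (R ⧸ Ideal.span (Set.range f)) := by
  intro h
  induction h with
  | zero =>
    intro R _ _ f _ _
    rw [show Set.range f = ∅ from Set.range_eq_empty f]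
    haveI : IsRegularLocalRing R := inferInstance
    exact IsRegularLocalRing.of_ringEquiv (R := R)
      ((RingEquiv.quotientBot R).symm.trans (Ideal.quotEquivOfEq Ideal.span_empty.symm))
  | succ h ih =>
    intro R _ _ f hf hind
    classical
    let g : R := f 0
    have hg2 : g ∉ maximalIdeal R ^ 2 := fun hmem => by
      have := hind (Function.update 0 0 1) (by simpa [Fin.sum_univ_succ, Function.update_of_ne, Fin.succ_ne_zero] using hmem) 0
      simp at this
    obtain ⟨d, hd⟩ := RegLocal.exists_nat_ringKrullDim R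
    haveI := (RegLocal.quot_singleton R hd (hf 0) hg2).1
    let R1 := R ⧸ Ideal.span {g}
    let q := Ideal.Quotient.mk (Ideal.span {g})
    have hmax : maximalIdeal R1 = (maximalIdeal R).map q :=
      RegLocal.maximalIdeal_quot (R := R) (fun h => (maximalIdeal.isMaximal R).ne_top
        (top_le_iff.1 (h ▸ (Ideal.span_singleton_le_iff_mem _).2 (hf 0))))
    have h1 := ih R1 (fun i => q (f i.succ)) (fun i => hmax ▸ Ideal.mem_map_of_mem q (hf _)) fun a ha i => by
      choose b hb using fun i => Ideal.Quotient.mk_surjective (a i)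
      have h2 : ∑ j, b j * f j.succ ∈ (maximalIdeal R ^ 2) ⊔ Ideal.span {g} := by
        rw [hmax, ← Ideal.map_pow] at ha
        have h3 : q (∑ j, b j * f j.succ) ∈ (maximalIdeal R ^ 2).map q := by
          have hq : ∀ i, q (b i) = a i := hb
          rw [map_sum]; simp only [map_mul, hq]; exact ha
        rw [← Ideal.mem_comap, Ideal.comap_map_of_surjective _ Ideal.Quotient.mk_surjective,
          ← RingHom.ker_eq_comap_bot, Ideal.mk_ker] at h3
        exact h3
      obtain ⟨u, hu, v, hv, huv⟩ := Submodule.mem_sup.1 h2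
      obtain ⟨c, rfl⟩ := Ideal.mem_span_singleton'.1 hv
      have h4 := hind (Fin.cons (-c) b) (by
        rw [Fin.sum_univ_succ]
        simp only [Fin.cons_zero, Fin.cons_succ]
        rw [← huv]
        have : -c * f 0 + (u + c * g) = u := by simp [g]
        rwa [this]) i.succ
      rw [Fin.cons_succ] at h4
      rw [← hb i, hmax]
      exact Ideal.mem_map_of_mem q h4
    have hspan : Ideal.span {g} ⊔ Ideal.span (Set.range fun i : Fin h => f i.succ) = Ideal.span (Set.range f) := by
      rw [← Ideal.span_union]
      congr 1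
      ext x
      simp only [Set.mem_union, Set.mem_singleton_iff, Set.mem_range]
      constructor
      · rintro (rfl | ⟨i, rfl⟩)
        exacts [⟨0, rfl⟩, ⟨_, rfl⟩]
      · rintro ⟨i, rfl⟩
        exact Fin.cases (Or.inl rfl) (fun i => Or.inr ⟨i, rfl⟩) i
    refine IsRegularLocalRing.of_ringEquiv (R := R1 ⧸ Ideal.span (Set.range fun i : Fin h => q (f i.succ))) ?_
    exact ((Ideal.quotEquivOfEq (by rw [Ideal.map_span, ← Set.range_comp]; rfl :
      Ideal.span (Set.range fun i : Fin h => q (f i.succ)) = (Ideal.span (Set.range fun i : Fin h => f i.succ)).map q)).trans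
      (DoubleQuot.quotQuotEquivQuotSup _ _)).trans (Ideal.quotEquivOfEq hspan)

/-- Derivations separating the cotangent space of `P` keep its generators independent at every prime
over `P` of an algebra to which they extend. -/
theorem isRegularLocalRing_quot_map {M : Type u} [CommRing M] (P : Ideal M) [P.IsPrime]
    [IsNoetherianRing M] [IsRegularLocalRing (Localization.AtPrime P)] (Δ : Set (Derivation ℤ M M))
    (hΔ : ∀ f ∈ P, (∀ δ ∈ Δ, δ f ∈ P) → algebraMap M (Localization.AtPrime P) f ∈ maximalIdeal (Localization.AtPrime P) ^ 2)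
    {C : Type u} [CommRing C] [Algebra M C] (Q : Ideal C) [Q.IsPrime] (hQ : Q.comap (algebraMap M C) = P)
    [IsRegularLocalRing (Localization.AtPrime Q)]
    (hext : ∀ δ ∈ Δ, ∃ E : Derivation ℤ C C, ∀ m, E (algebraMap M C m) = algebraMap M C (δ m)) :
    IsRegularLocalRing (Localization.AtPrime Q ⧸ P.map (algebraMap M (Localization.AtPrime Q))) := by
  classical
  let A := Localization.AtPrime P
  let κ := P.ResidueField
  let n := (maximalIdeal A).spanFinrank
  obtain ⟨y, hy⟩ := RegLocal.exists_generators A
  have hnum : ∀ x : A, ∃ a : M, Ideal.span {algebraMap M A a} = Ideal.span {x} := fun x => by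
    obtain ⟨a, s, rfl⟩ := IsLocalization.exists_mk'_eq P.primeCompl x
    refine ⟨a, ?_⟩
    rw [← IsLocalization.mk'_spec A a s]
    exact Ideal.span_singleton_mul_right_unit (IsLocalization.map_units A s) _
  choose num hnum using hnum
  let f : Fin n → M := fun i => num (y i)
  have hfA : Ideal.span (Set.range fun i => algebraMap M A (f i)) = maximalIdeal A := by
    rw [← hy, Ideal.span_range_eq_iSup, Ideal.span_range_eq_iSup]
    exact iSup_congr fun i => hnum (y i)
  have hfP : ∀ i, f i ∈ P := fun i => by
    rw [← IsLocalization.AtPrime.under_maximalIdeal A P]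
    exact (hfA ▸ Ideal.subset_span ⟨i, rfl⟩ : algebraMap M A (f i) ∈ maximalIdeal A)
  let res : M →+* κ := algebraMap M κ
  -- the values of the derivations span
  let v : Derivation ℤ M M → (Fin n → κ) := fun δ i => res (δ (f i))
  have hspan : Submodule.span κ (v '' Δ) = ⊤ := by
    by_contra hne
    obtain ⟨φ, hφ, hle⟩ := Submodule.exists_le_ker_of_lt_top _ (lt_top_iff_ne_top.2 hne)
    let c : Fin n → κ := fun i => φ (Pi.single i 1)
    have hφc : ∀ w, φ w = ∑ i, w i * c i := fun w => by
      have hw : w = ∑ i, w i • Pi.single i (1 : κ) := by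
        ext k; simp [Finset.sum_apply, Pi.single_apply]
      conv_lhs => rw [hw]
      simp [map_sum, c]
    -- clear denominators
    have hc : ∀ i, ∃ x : A, IsLocalRing.residue A x = c i := fun i => IsLocalRing.residue_surjective (c i)
    choose x hx using hc
    obtain ⟨s, hs⟩ := IsLocalization.exist_integer_multiples_of_finset P.primeCompl (Finset.univ.image x)
    choose a ha using fun i => hs (x i) (Finset.mem_image_of_mem _ (Finset.mem_univ i))
    have hs0 : res (s : M) ≠ 0 := fun h0 => s.2 (Ideal.algebraMap_residueField_eq_zero.1 h0)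
    have hra : ∀ i, res (a i) = res (s : M) * c i := fun i => by
      show algebraMap M κ (a i) = _
      rw [IsScalarTower.algebraMap_apply M A κ, ha i, Algebra.smul_def, map_mul,
        ← IsScalarTower.algebraMap_apply M A κ]
      congr 1
      exact hx i
    let g := ∑ i, a i * f i
    have hg := hΔ g (sum_mem fun i _ => P.mul_mem_left _ (hfP i)) fun δ hδ => by
      have h0 : φ (v δ) = 0 := LinearMap.mem_ker.1 (hle (Submodule.subset_span ⟨δ, hδ, rfl⟩))
      rw [hφc] at h0
      rw [← Ideal.algebraMap_residueField_eq_zero]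
      show res (δ g) = 0
      simp only [g, map_sum, Derivation.leibniz, smul_eq_mul, map_add, map_mul]
      refine Eq.trans ?_ (mul_eq_zero_of_right (res (s : M)) h0)
      rw [Finset.mul_sum]
      refine Finset.sum_congr rfl fun i _ => ?_
      rw [show res (f i) = 0 from Ideal.algebraMap_residueField_eq_zero.2 (hfP i), zero_mul, add_zero, hra]
      show res (s : M) * c i * res (δ (f i)) = res (s : M) * (res (δ (f i)) * c i)
      ring
    simp only [g, map_sum, map_mul] at hg
    have hzero : ∀ i, c i = 0 := fun i => by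
      have h1 := mem_maximalIdeal_of_minimal A rfl _ hfA (fun i => algebraMap M A (a i)) hg i
      have h2 : res (a i) = 0 := by
        show algebraMap M κ (a i) = 0
        rw [IsScalarTower.algebraMap_apply M A κ]
        exact (IsLocalRing.residue_eq_zero_iff _).2 h1
      rw [hra] at h2
      exact (mul_eq_zero.1 h2).resolve_left hs0
    exact hφ (LinearMap.ext fun w => by simp [hφc, hzero])
  -- combinations dual to the generators
  let L := Localization.AtPrime Q
  have hdual : ∀ j, ∃ (E : Derivation ℤ C C) (u : M), u ∉ P ∧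
      ∀ i, E (algebraMap M C (f i)) - algebraMap M C (if i = j then u else 0) ∈ Q := by
    intro j
    have hj : (Pi.single j (1 : κ) : Fin n → κ) ∈ Submodule.span κ (v '' Δ) := hspan ▸ trivial
    suffices key : ∀ w ∈ Submodule.span κ (v '' Δ), ∃ (E : Derivation ℤ C C) (u : M) (z : Fin n → M), u ∉ P ∧
        (∀ i, E (algebraMap M C (f i)) = algebraMap M C (z i)) ∧ ∀ i, res (z i) = res u * w i by
      obtain ⟨E, u, z, hu, hE, hz⟩ := key _ hj
      refine ⟨E, u, hu, fun i => ?_⟩
      rw [hE, ← map_sub]
      have hmem : z i - (if i = j then u else 0) ∈ P := by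
        rw [← Ideal.algebraMap_residueField_eq_zero]
        show res (z i - _) = 0
        rw [map_sub, hz, sub_eq_zero]
        by_cases h : i = j
        · subst h; simp
        · simp [h]
      rwa [← hQ, Ideal.mem_comap] at hmem
    intro w hw
    induction hw using Submodule.span_induction with
    | mem w hw =>
      obtain ⟨δ, hδ, rfl⟩ := hw
      obtain ⟨E, hE⟩ := hext δ hδ
      exact ⟨E, 1, fun i => δ (f i), fun h => Ideal.IsPrime.ne_top' ((Ideal.eq_top_iff_one _).2 h),
        fun i => hE _, fun i => by rw [map_one, one_mul]⟩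
    | zero => exact ⟨0, 1, 0, fun h => Ideal.IsPrime.ne_top' ((Ideal.eq_top_iff_one _).2 h), fun i => by simp, fun i => by simp⟩
    | add w₁ w₂ _ _ h₁ h₂ =>
      obtain ⟨E₁, u₁, z₁, hu₁, hE₁, hz₁⟩ := h₁
      obtain ⟨E₂, u₂, z₂, hu₂, hE₂, hz₂⟩ := h₂
      refine ⟨algebraMap M C u₂ • E₁ + algebraMap M C u₁ • E₂, u₁ * u₂, fun i => u₂ * z₁ i + u₁ * z₂ i,
        fun h => (Ideal.IsPrime.mem_or_mem ‹P.IsPrime› h).elim hu₁ hu₂, fun i => ?_, fun i => ?_⟩
      · rw [Derivation.add_apply, Derivation.smul_apply, Derivation.smul_apply, hE₁, hE₂, smul_eq_mul, smul_eq_mul,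
          map_add, map_mul, map_mul]
      · simp [hz₁, hz₂]; ring
    | smul k w _ h =>
      obtain ⟨E, u, z, hu, hE, hz⟩ := h
      obtain ⟨x, rfl⟩ := IsLocalRing.residue_surjective k
      obtain ⟨b, t, rfl⟩ := IsLocalization.exists_mk'_eq P.primeCompl x
      refine ⟨algebraMap M C b • E, u * t, fun i => b * z i,
        fun h => (Ideal.IsPrime.mem_or_mem ‹P.IsPrime› h).elim hu t.2, fun i => ?_, fun i => ?_⟩
      · rw [Derivation.smul_apply, hE, smul_eq_mul, map_mul]
      · have hbt : res b = res (t : M) * IsLocalRing.residue A (IsLocalization.mk' A b t) := by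
          show algebraMap M κ b = algebraMap M κ (t : M) * _
          rw [IsScalarTower.algebraMap_apply M A κ, IsScalarTower.algebraMap_apply M A κ (t : M),
            ← IsLocalization.mk'_spec A b t, map_mul]
          exact mul_comm _ _
        rw [map_mul, map_mul, hz, hbt, Pi.smul_apply, smul_eq_mul]
        ring
  have hQL : Q.map (algebraMap C L) = maximalIdeal L := Localization.AtPrime.map_eq_maximalIdeal
  letI : Algebra M L := ((algebraMap C L).comp (algebraMap M C)).toAlgebra
  have hind : ∀ a : Fin n → L, ∑ i, a i * algebraMap C L (algebraMap M C (f i)) ∈ maximalIdeal L ^ 2 →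
      ∀ j, a j ∈ maximalIdeal L := by
    intro a ha j
    obtain ⟨E, u, hu, hE⟩ := hdual j
    obtain ⟨s, hs⟩ := IsLocalization.exist_integer_multiples_of_finset Q.primeCompl (Finset.univ.image a)
    choose b hb using fun i => hs (a i) (Finset.mem_image_of_mem _ (Finset.mem_univ i))
    have hb' : ∀ i, algebraMap C L (b i) = algebraMap C L (s : C) * a i := fun i => by
      rw [hb i, Algebra.smul_def]
    let g := ∑ i, b i * algebraMap M C (f i)
    have hg : algebraMap C L g ∈ maximalIdeal L ^ 2 := by
      have := Ideal.mul_mem_left _ (algebraMap C L (s : C)) ha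
      rw [Finset.mul_sum] at this
      simpa only [g, map_sum, map_mul, hb', mul_assoc] using this
    rw [← hQL, ← Ideal.map_pow, IsLocalization.algebraMap_mem_map_algebraMap_iff Q.primeCompl] at hg
    obtain ⟨t, ht, htg⟩ := hg
    have hEQ : ∀ z ∈ Q ^ 2, E z ∈ Q := by
      intro z hz
      rw [pow_two] at hz
      refine Submodule.mul_induction_on hz (fun p hp q hq => ?_) fun p q hp hq => by rw [map_add]; exact add_mem hp hq
      rw [Derivation.leibniz, smul_eq_mul, smul_eq_mul]
      exact add_mem (Q.mul_mem_right _ hp) (Q.mul_mem_right _ hq)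
    have h1 := hEQ _ htg
    have hgQ : g ∈ Q := sum_mem fun i _ => Q.mul_mem_left _ (by rw [← Ideal.mem_comap, hQ]; exact hfP i)
    rw [Derivation.leibniz, smul_eq_mul, smul_eq_mul] at h1
    have h2 : E g ∈ Q := ((‹Q.IsPrime›).mem_or_mem ((Ideal.add_mem_iff_left _ (Q.mul_mem_right _ hgQ)).1 h1)).resolve_left ht
    have h3 : ∑ i, b i * algebraMap M C (if i = j then u else 0) ∈ Q := by
      simp only [g, map_sum, Derivation.leibniz, smul_eq_mul] at h2
      have h4 : ∑ i, (b i * E (algebraMap M C (f i)) + algebraMap M C (f i) * E (b i) -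
          (algebraMap M C (f i) * E (b i) + b i * (E (algebraMap M C (f i)) - algebraMap M C (if i = j then u else 0)))) ∈ Q := by
        rw [Finset.sum_sub_distrib]
        refine sub_mem h2 (sum_mem fun i _ => add_mem (Q.mul_mem_right _ ?_) (Q.mul_mem_left _ (hE i)))
        rw [← Ideal.mem_comap, hQ]; exact hfP i
      refine Eq.subst (motive := (· ∈ Q)) (Finset.sum_congr rfl fun i _ => ?_) h4
      ring
    rw [Finset.sum_eq_single j (fun i _ hi => by simp [hi]) (fun h => absurd (Finset.mem_univ j) h), if_pos rfl] at h3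
    have huQ : algebraMap M C u ∉ Q := fun h => hu (by rw [← hQ]; exact h)
    have h5 : algebraMap C L (b j) ∈ maximalIdeal L :=
      hQL ▸ Ideal.mem_map_of_mem _ (((‹Q.IsPrime›).mem_or_mem h3).resolve_right huQ)
    rw [hb'] at h5
    exact (Ideal.unit_mul_mem_iff_mem _ (IsLocalization.map_units L s)).1 h5
  have hreg := isRegularLocalRing_quot n L (fun i => algebraMap C L (algebraMap M C (f i)))
    (fun i => hQL ▸ Ideal.mem_map_of_mem _ (by rw [← Ideal.mem_comap, hQ]; exact hfP i)) hind
  have heq : Ideal.span (Set.range fun i => algebraMap C L (algebraMap M C (f i))) =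
      P.map ((algebraMap C L).comp (algebraMap M C)) := by
    refine le_antisymm (Ideal.span_le.2 ?_) (Ideal.map_le_iff_le_comap.2 fun x hx => ?_)
    · rintro _ ⟨i, rfl⟩
      exact Ideal.mem_map_of_mem ((algebraMap C L).comp (algebraMap M C)) (hfP i)
    · have h1 : algebraMap M A x ∈ (Ideal.span (Set.range f)).map (algebraMap M A) := by
        rw [Ideal.map_span, ← Set.range_comp, show Ideal.span (Set.range (algebraMap M A ∘ f)) = maximalIdeal A from hfA,
          ← Localization.AtPrime.map_eq_maximalIdeal]
        exact Ideal.mem_map_of_mem _ hx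
      obtain ⟨s, hs, hsx⟩ := (IsLocalization.algebraMap_mem_map_algebraMap_iff P.primeCompl A _ x).1 h1
      have h2 := Ideal.mem_map_of_mem ((algebraMap C L).comp (algebraMap M C)) hsx
      rw [Ideal.map_span, ← Set.range_comp, map_mul] at h2
      have hsQ : algebraMap M C s ∈ Q.primeCompl := fun h => hs (by rw [← hQ]; exact h)
      exact (Ideal.unit_mul_mem_iff_mem _ (IsLocalization.map_units L (⟨_, hsQ⟩ : Q.primeCompl))).1 h2
  haveI := hreg
  refine IsRegularLocalRing.of_ringEquiv (R := L ⧸ Ideal.span (Set.range fun i => algebraMap C L (algebraMap M C (f i))))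
    (Ideal.quotEquivOfEq (heq.trans ?_))
  rfl

end Groth.Agent.GRingCompleteLib
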