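import Groth.Agent.GRingCompleteLib.Deriv
import Groth.Agent.GRingCompleteLib.Quot
import Groth.Agent.J2CompleteLib.Main
import Groth.Agent.FieldExtLib.Separable

/-!
# Derivations of a polynomial ring detect the cotangent space at primes over the generic point
-/

set_option autoImplicit false
set_option backward.isDefEq.respectTransparency false
set_option maxHeartbeats 1000000
universe u

open IsLocalRing

namespace Groth.Agent.GRingCompleteLib

open J2CompleteLib

/-- Over a base field with formally smooth residue field, derivations into the residue field separate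
the cotangent space. -/
theorem exists_derivation_of_notMem_sq {k : Type*} [Field k] {A : Type u} [CommRing A] [IsLocalRing A]
    [Algebra k A] [Algebra.FormallySmooth k (ResidueField A)] {f : A} (hf : f ∈ maximalIdeal A)
    (hf2 : f ∉ maximalIdeal A ^ 2) :
    ∃ D : Derivation ℤ A (ResidueField A), D f ≠ 0 ∧ ∀ c : k, D (algebraMap k A c) = 0 := by
  classical
  let m := maximalIdeal A
  let κ := ResidueField A
  obtain ⟨sec, hsec⟩ := Algebra.FormallySmooth.exists_lift (R := k) (A := κ) (B := A ⧸ m ^ 2)
    (m.map (Ideal.Quotient.mk (m ^ 2))) ⟨2, by rw [← Ideal.map_pow, Ideal.map_quotient_self]; rfl⟩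
    (((DoubleQuot.quotQuotEquivQuotOfLEₐ k (Ideal.pow_le_self (I := m) two_ne_zero)).symm).toAlgHom)
  choose l hl using fun c : κ => Ideal.Quotient.mk_surjective (sec c)
  have hres : ∀ c, residue A (l c) = c := fun c => by
    have h1 := DFunLike.congr_fun hsec c
    rw [AlgHom.comp_apply, ← hl c] at h1
    have h2 := congrArg (DoubleQuot.quotQuotEquivQuotOfLEₐ k (Ideal.pow_le_self (I := m) two_ne_zero)) h1
    exact h2.trans (AlgEquiv.apply_symm_apply (DoubleQuot.quotQuotEquivQuotOfLEₐ k (Ideal.pow_le_self (I := m) two_ne_zero)) c)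
  have hmem : ∀ a, a - l (residue A a) ∈ m := fun a => by
    rw [← residue_eq_zero_iff, map_sub, hres, sub_self]
  have hcot : ∀ (x y : A) (hx : x ∈ m) (hy : y ∈ m), x - y ∈ m ^ 2 →
      m.toCotangent ⟨x, hx⟩ = m.toCotangent ⟨y, hy⟩ := fun x y hx hy h => (Ideal.toCotangent_eq m).2 h
  have ladd : ∀ a b, l (a + b) - (l a + l b) ∈ m ^ 2 := fun a b => by
    rw [← Ideal.Quotient.eq, map_add, hl, hl, hl, map_add]
  have lmul : ∀ a b, l (a * b) - l a * l b ∈ m ^ 2 := fun a b => by
    rw [← Ideal.Quotient.eq, map_mul, hl, hl, hl, map_mul]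
  have hne : m.toCotangent ⟨f, hf⟩ ≠ 0 := fun h => hf2 ((Ideal.toCotangent_eq_zero m _).1 h)
  obtain ⟨φ, hφ⟩ : ∃ φ : CotangentSpace A →ₗ[κ] κ, φ (m.toCotangent ⟨f, hf⟩) ≠ 0 :=
    not_forall.1 fun h => hne ((Module.forall_dual_apply_eq_zero_iff κ (m.toCotangent ⟨f, hf⟩ : CotangentSpace A)).1 h)
  let F : A → κ := fun a => φ (m.toCotangent ⟨a - l (residue A a), hmem a⟩)
  let D : Derivation ℤ A κ := Derivation.mk'
    (AddMonoidHom.mk' F fun a b => by
      show φ _ = φ _ + φ _
      rw [← map_add, ← map_add]
      congr 1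
      refine hcot _ _ _ _ ?_
      show a + b - l (residue A (a + b)) - (a - l (residue A a) + (b - l (residue A b))) ∈ m ^ 2
      have := neg_mem (ladd (residue A a) (residue A b))
      rw [← map_add] at this
      convert this using 1; ring).toIntLinearMap
    fun a b => by
      have h1 : ∀ (c : A) (x : CotangentSpace A), φ (c • x) = c • φ x := fun c x => φ.map_smul_of_tower c x
      show φ _ = a • φ _ + b • φ _
      rw [← h1, ← h1, ← map_add]
      congr 1
      rw [← map_smul, ← map_smul, ← map_add]
      refine hcot _ _ _ _ ?_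
      show a * b - l (residue A (a * b)) - (a * (b - l (residue A b)) + b * (a - l (residue A a))) ∈ m ^ 2
      have h2 : (a - l (residue A a)) * (b - l (residue A b)) ∈ m ^ 2 := by
        rw [sq]; exact Ideal.mul_mem_mul (hmem a) (hmem b)
      have h3 := lmul (residue A a) (residue A b)
      rw [← map_mul] at h3
      have := neg_mem (add_mem h2 h3)
      convert this using 1; ring
  refine ⟨D, fun h0 => hφ ?_, fun c => ?_⟩
  rotate_left
  · show φ (m.toCotangent ⟨_, hmem _⟩) = 0
    convert map_zero φ
    refine (Ideal.toCotangent_eq_zero m _).2 ?_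
    show algebraMap k A c - l (residue A (algebraMap k A c)) ∈ m ^ 2
    rw [← Ideal.Quotient.eq, hl]
    exact (sec.commutes c).symm
  show φ (m.toCotangent ⟨f, hf⟩) = 0
  rw [← h0]
  show _ = φ (m.toCotangent ⟨f - l (residue A f), hmem f⟩)
  congr 1
  refine hcot _ _ _ _ ?_
  rw [sub_sub_cancel]
  rw [← Ideal.Quotient.eq_zero_iff_mem, hl, (residue_eq_zero_iff f).2 hf, map_zero]

/-- A derivation with values in an extension field extends to the fraction field. -/
theorem exists_ext_values {R K L : Type u} [CommRing R] [Field K] [Field L] [Algebra R K] [IsFractionRing R K]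
    [Algebra K L] [Algebra R L] [IsScalarTower R K L] (D : Derivation ℤ R L) :
    ∃ E : Derivation ℤ K L, ∀ r, E (algebraMap R K r) = D r := by
  let g := defHom D
  have hg : ∀ y : nonZeroDivisors R, IsUnit (g y) := fun y => by
    rw [TrivSqZeroExt.isUnit_iff_isUnit_fst]
    show IsUnit (TrivSqZeroExt.fst (TrivSqZeroExt.inl (algebraMap R L y) + TrivSqZeroExt.inr (D y)))
    rw [TrivSqZeroExt.fst_add, TrivSqZeroExt.fst_inl, TrivSqZeroExt.fst_inr, add_zero,
      IsScalarTower.algebraMap_apply R K L]
    exact (IsLocalization.map_units K y).map _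
  let ψ := IsLocalization.lift (S := K) hg
  have hfst : ∀ z, (ψ z).fst = algebraMap K L z := by
    have : (TrivSqZeroExt.fstHom L L L).toRingHom.comp ψ = algebraMap K L := by
      refine IsLocalization.ringHom_ext (nonZeroDivisors R) (RingHom.ext fun r => ?_)
      show (ψ (algebraMap R K r)).fst = algebraMap K L (algebraMap R K r)
      rw [IsLocalization.lift_eq, ← IsScalarTower.algebraMap_apply R K L]
      simp [g, defHom]
    exact fun z => RingHom.congr_fun this z
  refine ⟨Derivation.mk' (AddMonoidHom.mk' (fun z => (ψ z).snd) fun x y => by simp).toIntLinearMap fun x y => ?_,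
    fun r => ?_⟩
  · show (ψ (x * y)).snd = x • (ψ y).snd + y • (ψ x).snd
    simp [hfst, Algebra.smul_def]; ring
  · show (ψ (algebraMap R K r)).snd = D r
    rw [IsLocalization.lift_eq]
    simp [g, defHom]

variable {R : Type u} [CommRing R] [IsDomain R] {σ : Type}

/-- A derivation of the coefficients acts on polynomials. -/
theorem exists_mapCoeff {R : Type u} [CommRing R] {σ : Type} (d : Der R) :
    ∃ E : Der (MvPolynomial σ R), (∀ f m, MvPolynomial.coeff m (E f) = d (MvPolynomial.coeff m f)) ∧
      ∀ i, E (MvPolynomial.X i) = 0 := by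
  classical
  let F : MvPolynomial σ R → MvPolynomial σ R := fun f =>
    ∑ m ∈ f.support, MvPolynomial.monomial m (d (MvPolynomial.coeff m f))
  have hF : ∀ f m, MvPolynomial.coeff m (F f) = d (MvPolynomial.coeff m f) := fun f m => by
    simp only [F, MvPolynomial.coeff_sum, MvPolynomial.coeff_monomial, Finset.sum_ite_eq']
    split
    · rfl
    · rename_i h
      rw [MvPolynomial.notMem_support_iff.1 h, map_zero]
  refine ⟨mkDer F (fun f g => ?_) (fun f g => ?_), hF, fun i => ?_⟩
  · ext m; simp [hF]
  · ext m
    rw [hF, MvPolynomial.coeff_add, mul_comm g (F f), MvPolynomial.coeff_mul, MvPolynomial.coeff_mul, MvPolynomial.coeff_mul,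
      map_sum, ← Finset.sum_add_distrib]
    refine Finset.sum_congr rfl fun x _ => ?_
    rw [hF, hF, Derivation.leibniz, smul_eq_mul, smul_eq_mul]
    ring
  · ext m
    rw [mkDer_apply, hF, MvPolynomial.coeff_X', MvPolynomial.coeff_zero]
    split <;> simp

/-- Derivations of the coefficients and the partial derivatives. -/
def baseDers (R : Type u) [CommRing R] (σ : Type) : Set (Der (MvPolynomial σ R)) :=
  {E | (∃ d : Der R, (∀ f m, MvPolynomial.coeff m (E f) = d (MvPolynomial.coeff m f)) ∧ ∀ i, E (MvPolynomial.X i) = 0) ∨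
    ∃ i, ∀ f, E f = MvPolynomial.pderiv i f}

/-- A derivation into a field vanishes on `f` if the partial derivatives and the coefficient part do. -/
theorem apply_eq_zero {L : Type u} [Field L] [Algebra (MvPolynomial σ R) L] (D : Derivation ℤ (MvPolynomial σ R) L)
    (f : MvPolynomial σ R) (hX : ∀ i, algebraMap (MvPolynomial σ R) L (MvPolynomial.pderiv i f) = 0)
    (hC : ∑ m ∈ f.support, D (MvPolynomial.C (MvPolynomial.coeff m f)) *
      algebraMap (MvPolynomial σ R) L (MvPolynomial.monomial m 1) = 0) [Fintype σ] : D f = 0 := by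
  classical
  have hmono : ∀ m : σ →₀ ℕ, D (MvPolynomial.monomial m (1 : R)) =
      ∑ i, algebraMap (MvPolynomial σ R) L (MvPolynomial.pderiv i (MvPolynomial.monomial m (1 : R))) * D (MvPolynomial.X i) := by
    intro m
    induction m using Finsupp.induction with
    | zero => simp [← MvPolynomial.C_apply]
    | single_add j b g hj hb ih =>
      rw [MvPolynomial.monomial_single_add, Derivation.leibniz, ih, Derivation.leibniz_pow]
      simp only [Derivation.leibniz, map_add, smul_eq_mul, map_mul, Algebra.smul_def, add_mul, Finset.sum_add_distrib,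
        Finset.mul_sum, Derivation.leibniz_pow, nsmul_eq_mul, map_natCast, map_pow]
      congr 1
      · exact Finset.sum_congr rfl fun i _ => by ring
      · rw [Finset.sum_eq_single j (fun i _ hi => by simp [MvPolynomial.pderiv_X, Pi.single_eq_of_ne' hi])
          (fun h => absurd (Finset.mem_univ j) h)]
        simp [MvPolynomial.pderiv_X]
        ring
  have hmul : ∀ m, D (MvPolynomial.monomial m (MvPolynomial.coeff m f)) =
      D (MvPolynomial.C (MvPolynomial.coeff m f)) * algebraMap (MvPolynomial σ R) L (MvPolynomial.monomial m 1) +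
      ∑ i, algebraMap (MvPolynomial σ R) L (MvPolynomial.pderiv i (MvPolynomial.monomial m (MvPolynomial.coeff m f))) *
        D (MvPolynomial.X i) := by
    intro m
    conv_lhs => rw [← mul_one (MvPolynomial.coeff m f), ← MvPolynomial.C_mul_monomial]
    conv_rhs => arg 2; rw [← mul_one (MvPolynomial.coeff m f), ← MvPolynomial.C_mul_monomial]
    rw [Derivation.leibniz, hmono, Algebra.smul_def, Algebra.smul_def, Finset.mul_sum, add_comm]
    congr 1
    · ring
    · refine Finset.sum_congr rfl fun i _ => ?_
      simp [MvPolynomial.pderiv_C_mul, map_mul]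
      ring
  conv_lhs => rw [MvPolynomial.as_sum f]
  simp only [map_sum, hmul, Finset.sum_add_distrib, hC, zero_add]
  rw [Finset.sum_comm]
  refine Finset.sum_eq_zero fun i _ => ?_
  rw [← Finset.sum_mul, ← map_sum, ← map_sum, ← MvPolynomial.as_sum, hX, zero_mul]

/-- In characteristic zero the separating derivation kills the base. -/
theorem exists_derivation_charZero {R A : Type u} [CommRing R] [IsDomain R] [CharZero R] [CommRing A] [IsLocalRing A]
    [Algebra R A] (hunit : ∀ r : R, r ≠ 0 → IsUnit (algebraMap R A r)) {f : A} (hf : f ∈ maximalIdeal A)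
    (hf2 : f ∉ maximalIdeal A ^ 2) :
    ∃ D : Derivation ℤ A (ResidueField A), D f ≠ 0 ∧ ∀ r, D (algebraMap R A r) = 0 := by
  let K := FractionRing R
  letI : Algebra K A := (IsLocalization.lift (M := nonZeroDivisors R) (S := K) (g := algebraMap R A)
    fun y => hunit y (nonZeroDivisors.ne_zero y.2)).toAlgebra
  haveI : CharZero K := charZero_of_injective_algebraMap (IsFractionRing.injective R K)
  haveI : Algebra.FormallySmooth K (ResidueField A) :=
    FieldExtLib.formallySmooth_of_isGeometricallyReduced FieldExtLib.isGeometricallyReduced_of_perfectField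
  obtain ⟨D, hD, hDk⟩ := exists_derivation_of_notMem_sq (k := K) hf hf2
  refine ⟨D, hD, fun r => ?_⟩
  have h := hDk (algebraMap R K r)
  rwa [show algebraMap K A (algebraMap R K r) = algebraMap R A r from IsLocalization.lift_eq _ r] at h

/-- In characteristic `p` derivations into the residue field separate the cotangent space. -/
theorem exists_derivation_charP {A : Type u} [CommRing A] [IsLocalRing A] (p : ℕ) [Fact p.Prime] [CharP A p]
    {f : A} (hf : f ∈ maximalIdeal A) (hf2 : f ∉ maximalIdeal A ^ 2) :
    ∃ D : Derivation ℤ A (ResidueField A), D f ≠ 0 := by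
  letI : Algebra (ZMod p) A := (ZMod.castHom (dvd_refl p) A).toAlgebra' fun _ _ => mul_comm _ _
  haveI : Algebra.FormallySmooth (ZMod p) (ResidueField A) :=
    FieldExtLib.formallySmooth_of_isGeometricallyReduced FieldExtLib.isGeometricallyReduced_of_perfectField
  obtain ⟨D, hD, -⟩ := exists_derivation_of_notMem_sq (k := ZMod p) hf hf2
  exact ⟨D, hD⟩

/-- Restriction of a derivation along an algebra map. -/
theorem exists_pull {M A L : Type u} [CommRing M] [CommRing A] [Field L] [Algebra M A] [Algebra A L] [Algebra M L]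
    [IsScalarTower M A L] (D : Derivation ℤ A L) :
    ∃ E : Derivation ℤ M L, ∀ x, E x = D (algebraMap M A x) :=
  ⟨Derivation.mk' (AddMonoidHom.mk' (fun x => D (algebraMap M A x)) fun x y => by simp).toIntLinearMap
    fun x y => by
      show D (algebraMap M A (x * y)) = x • D (algebraMap M A y) + y • D (algebraMap M A x)
      rw [map_mul, Derivation.leibniz, algebraMap_smul, algebraMap_smul], fun _ => rfl⟩

/-- Over a separating base, relations among all derivations of the base hold for derivations into any field. -/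
theorem sum_eq_zero_of_ders {R K L : Type u} [CommRing R] [IsDomain R] [Field K] [Field L] [Algebra R K]
    [IsFractionRing R K] [Algebra K L] [Algebra R L] [IsScalarTower R K L] (p : ℕ) [Fact p.Prime] [CharP K p] [CharP L p]
    (hsep : Sep p (algebraMap R K).range) {ι : Type*} (t : Finset ι) (b : ι → R) (w : ι → L)
    (h : ∀ d : Der R, ∑ e ∈ t, algebraMap R L (d (b e)) * w e = 0) (D : Derivation ℤ R L) :
    ∑ e ∈ t, D (b e) * w e = 0 := by
  have hinjK := IsFractionRing.injective R K
  obtain ⟨E, hE⟩ := exists_ext_values (K := K) D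
  have hFrac : IsFrac (algebraMap R K).range := fun x => by
    obtain ⟨a, c, hc, rfl⟩ := IsFractionRing.div_surjective (A := R) x
    have hc0 : algebraMap R K c ≠ 0 := (map_ne_zero_iff _ hinjK).2 (nonZeroDivisors.ne_zero hc)
    exact ⟨_, ⟨a, rfl⟩, _, ⟨c, rfl⟩, hc0, div_mul_cancel₀ _ hc0⟩
  refine Eq.trans (Finset.sum_congr rfl fun e _ => ?_)
    (sum_eq_zero_of_bdd p hFrac hsep t (fun e => algebraMap R K (b e)) w (fun δ hδ => ?_) E)
  · rw [hE]
  · obtain ⟨g, ⟨g₀, rfl⟩, hg, hgδ⟩ := hδ
    choose d hd using fun r : R => hgδ (algebraMap R K r) ⟨r, rfl⟩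
    let d' : Der R := mkDer d (fun x y => hinjK (by rw [map_add, hd, hd, hd, map_add, map_add, mul_add]))
      (fun x y => hinjK (by
        rw [map_add, map_mul, map_mul, hd, hd, hd, map_mul, Derivation.leibniz, smul_eq_mul, smul_eq_mul]; ring))
    have hg' : algebraMap K L (algebraMap R K g₀) ≠ 0 := (map_ne_zero _).2 hg
    refine (mul_eq_zero.1 (?_ : algebraMap K L (algebraMap R K g₀) * _ = 0)).resolve_left hg'
    rw [Finset.mul_sum]
    refine Eq.trans (Finset.sum_congr rfl fun e _ => ?_) (h d')
    rw [← mul_assoc, ← map_mul, ← hd, ← IsScalarTower.algebraMap_apply R K L]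
    rfl

variable [IsNoetherianRing R] [Fintype σ]

/-- In characteristic zero, and in characteristic `p` over a separating base, the basic derivations
detect the cotangent space at primes over the generic point. -/
theorem baseDers_detect (hbase : CharZero R ∨ ∃ p : ℕ, p.Prime ∧ ∃ (_ : CharP R p),
      ∀ (K : Type u) [Field K] [Algebra R K] [IsFractionRing R K], Sep p (algebraMap R K).range)
    (P : Ideal (MvPolynomial σ R)) [P.IsPrime] (hP : P.comap (MvPolynomial.C (σ := σ) (R := R)) = ⊥)
    (f : MvPolynomial σ R) (hfP : f ∈ P) (hf : ∀ δ ∈ baseDers R σ, δ f ∈ P) :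
    algebraMap _ (Localization.AtPrime P) f ∈ maximalIdeal (Localization.AtPrime P) ^ 2 := by
  classical
  by_contra hf2
  let M := MvPolynomial σ R
  let A := Localization.AtPrime P
  let κ := ResidueField A
  have hfm : algebraMap M A f ∈ maximalIdeal A := by
    rw [← Localization.AtPrime.map_eq_maximalIdeal]; exact Ideal.mem_map_of_mem _ hfP
  have hres : ∀ x : M, algebraMap M κ x = 0 ↔ x ∈ P := fun x => Ideal.algebraMap_residueField_eq_zero
  have hinj : Function.Injective (algebraMap R κ) := by
    rw [injective_iff_map_eq_zero]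
    intro r hr
    have h1 : r ∈ P.comap (MvPolynomial.C (σ := σ) (R := R)) := by
      rw [Ideal.mem_comap, ← hres, ← MvPolynomial.algebraMap_eq, ← IsScalarTower.algebraMap_apply R M κ]
      exact hr
    rwa [hP, Ideal.mem_bot] at h1
  haveI : FaithfulSMul R κ := (faithfulSMul_iff_algebraMap_injective _ _).2 hinj
  have hpd : ∀ i, algebraMap M κ (MvPolynomial.pderiv i f) = 0 := fun i => (hres _).2 (by
    let E : Der M := mkDer (fun g => MvPolynomial.pderiv i g) (fun x y => map_add (MvPolynomial.pderiv i) x y)
      fun x y => Derivation.leibniz (MvPolynomial.pderiv i) x y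
    exact hf E (Or.inr ⟨i, fun g => rfl⟩))
  have hunit : ∀ r : R, r ≠ 0 → IsUnit (algebraMap R A r) := fun r hr => by
    rw [IsScalarTower.algebraMap_apply R M A, MvPolynomial.algebraMap_eq]
    refine IsLocalization.map_units A (⟨_, fun h => hr ?_⟩ : P.primeCompl)
    have : r ∈ P.comap (MvPolynomial.C (σ := σ) (R := R)) := h
    rwa [hP, Ideal.mem_bot] at this
  rcases hbase with h0 | ⟨p, hp, hc, hsep⟩
  · haveI := h0
    obtain ⟨D, hD, hDk⟩ := exists_derivation_charZero hunit hfm hf2
    obtain ⟨DR, hDR⟩ := exists_pull (M := M) (L := κ) D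
    refine hD ((hDR f).symm.trans (apply_eq_zero DR f hpd (Finset.sum_eq_zero fun m _ => ?_)))
    rw [hDR]
    rw [← MvPolynomial.algebraMap_eq, ← IsScalarTower.algebraMap_apply R M A, hDk, zero_mul]
  · haveI := Fact.mk hp
    haveI := hc
    haveI : CharP κ p := charP_of_injective_algebraMap hinj p
    haveI : CharP A p := CharP.of_ringHom_of_ne_zero (algebraMap R A) p hp.ne_zero
    obtain ⟨D, hD⟩ := exists_derivation_charP p hfm hf2
    obtain ⟨DR, hDR⟩ := exists_pull (M := M) (L := κ) D
    refine hD ((hDR f).symm.trans (apply_eq_zero DR f hpd ?_))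
    -- the coefficient part
    obtain ⟨D0, hD0⟩ := exists_pull (M := R) (L := κ) DR
    haveI : CharP (FractionRing R) p := charP_of_injective_algebraMap (IsFractionRing.injective R (FractionRing R)) p
    letI : Algebra (FractionRing R) κ := FractionRing.liftAlgebra R κ
    have hsum := sum_eq_zero_of_ders (K := FractionRing R) p (hsep (FractionRing R)) f.support
      (fun m => MvPolynomial.coeff m f) (fun m => algebraMap M κ (MvPolynomial.monomial m 1)) (fun d => by
        obtain ⟨Ed, hEd, hEX⟩ := exists_mapCoeff (σ := σ) d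
        have h1 := hf Ed (Or.inl ⟨d, hEd, hEX⟩)
        rw [← hres] at h1
        have h2 : Ed f = ∑ m ∈ f.support, MvPolynomial.C (d (MvPolynomial.coeff m f)) * MvPolynomial.monomial m 1 := by
          ext m
          rw [hEd, MvPolynomial.coeff_sum]
          simp only [MvPolynomial.C_mul_monomial, mul_one, MvPolynomial.coeff_monomial, Finset.sum_ite_eq']
          split
          · rfl
          · rename_i h
            rw [MvPolynomial.notMem_support_iff.1 h, map_zero]
        rw [h2, map_sum] at h1
        refine Eq.trans (Finset.sum_congr rfl fun m _ => ?_) h1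
        rw [map_mul, ← MvPolynomial.algebraMap_eq, ← IsScalarTower.algebraMap_apply R M κ]) D0
    refine Eq.trans (Finset.sum_congr rfl fun m _ => ?_) hsum
    rw [hD0]
    rfl

end Groth.Agent.GRingCompleteLib
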