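import Groth.Agent.J2CompleteLib.Deriv

/-!
# Bounded derivations separate finite sets modulo `p`-th powers
-/

set_option autoImplicit false
set_option backward.isDefEq.respectTransparency false
universe u

namespace Groth.Agent.GRingCompleteLib

open J2CompleteLib

variable {K : Type u} [Field K] {D : Subring K} (p : ℕ) [Fact p.Prime] [CharP K p]

/-- The field generated by `s` over the `p`-th powers. -/
def clP (s : Set K) : Subfield K := Subfield.closure (Set.range (fun x : K => x ^ p) ∪ s)

theorem pow_mem_clP (s : Set K) (x : K) : x ^ p ∈ clP p s := Subfield.subset_closure (Or.inl ⟨x, rfl⟩)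

theorem mem_clP {s : Set K} {x : K} (h : x ∈ s) : x ∈ clP p s := Subfield.subset_closure (Or.inr h)

theorem clP_mono {s t : Set K} (h : s ⊆ t) : clP p s ≤ clP p t :=
  Subfield.closure_mono (Set.union_subset_union_right _ h)

omit [CharP K p] in
theorem clP_le {s : Set K} {F : Subfield K} (hpow : ∀ x : K, x ^ p ∈ F) (hs : s ⊆ F) : clP p s ≤ F :=
  Subfield.closure_le.2 (Set.union_subset (by rintro _ ⟨x, rfl⟩; exact hpow x) hs)

/-- Derivations agreeing on `s` agree on `clP s`. -/
theorem eq_on_clP {L : Type u} [Field L] [Algebra K L] [CharP L p] (E E' : Derivation ℤ K L) {s : Set K}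
    (h : ∀ x ∈ s, E x = E' x) {x : K} (hx : x ∈ clP p s) : E x = E' x := by
  have hpow : ∀ (G : Derivation ℤ K L) (b : K), G (b ^ p) = 0 := fun G b => by
    rw [Derivation.leibniz_pow, ← Nat.cast_smul_eq_nsmul L, CharP.cast_eq_zero, zero_smul]
  induction hx using Subfield.closure_induction with
  | mem y hy =>
    rcases hy with ⟨z, rfl⟩ | hy
    · rw [hpow, hpow]
    · exact h y hy
  | one => rw [Derivation.map_one_eq_zero, Derivation.map_one_eq_zero]
  | add a b _ _ ha hb => rw [map_add, map_add, ha, hb]
  | neg a _ ha => rw [map_neg, map_neg, ha]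
  | inv a _ ha => rw [Derivation.leibniz_inv, Derivation.leibniz_inv, ha]
  | mul a b _ _ ha hb => rw [Derivation.leibniz, Derivation.leibniz, ha, hb]

theorem eq_zero_on_clP (δ : Derivation ℤ K K) {s : Set K} (h : ∀ x ∈ s, δ x = 0) {x : K} (hx : x ∈ clP p s) :
    δ x = 0 := eq_on_clP p δ 0 (fun y hy => by simp [h y hy]) hx

/-- One more generator. -/
theorem mem_clP_insert (hD : IsFrac D) {s : Set K}
    (hsep : ∀ x : K, (∀ δ : Derivation ℤ K K, Bdd D δ → (∀ b ∈ s, δ b = 0) → δ x = 0) → x ∈ clP p s)
    {a : K} {δ₁ : Derivation ℤ K K} (hδ₁ : Bdd D δ₁) (hδs : ∀ b ∈ s, δ₁ b = 0) (ha : δ₁ a = 1) {x : K}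
    (hx : ∀ δ : Derivation ℤ K K, Bdd D δ → (∀ b ∈ s, δ b = 0) → δ a = 0 → δ x = 0) :
    x ∈ clP p (insert a s) := by
  have hp : p.Prime := Fact.out
  let S : K → Prop := fun z => ∀ δ : Derivation ℤ K K, Bdd D δ → (∀ b ∈ s, δ b = 0) → δ z = δ a * δ₁ z
  have hS : ∀ z, (∀ δ : Derivation ℤ K K, Bdd D δ → (∀ b ∈ s, δ b = 0) → δ a = 0 → δ z = 0) → S z :=
      fun z hz δ hδ hs => by
    have h := hz (δ - δ a • δ₁) ((hδ.sub (hδ₁.smul hD (δ a))).congr fun z => rfl)
      (fun b hb => by simp [hs b hb, hδs b hb]) (by simp [ha])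
    simpa [sub_eq_zero] using h
  have hSδ : ∀ z, S z → S (δ₁ z) := by
    intro z hz δ hδ hs
    have hbr : Bdd D (⁅δ, δ₁⁆ : Derivation ℤ K K) :=
      ((hδ.comp hδ₁).sub (hδ₁.comp hδ)).congr fun z => (Derivation.commutator_apply z).symm
    have h1 := hz _ hbr fun b hb => by
      rw [Derivation.commutator_apply, hs b hb, hδs b hb, map_zero, map_zero, sub_zero]
    rw [Derivation.commutator_apply, Derivation.commutator_apply, ha, Derivation.map_one_eq_zero,
      hz δ hδ hs, Derivation.leibniz, smul_eq_mul, smul_eq_mul] at h1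
    linear_combination h1
  have hSit : ∀ n z, S z → S (δ₁^[n] z) := by
    intro n
    induction n with
    | zero => intro z hz; exact hz
    | succ n ih => intro z hz; rw [Function.iterate_succ_apply']; exact hSδ _ (ih z hz)
  obtain ⟨E, hE⟩ := exists_powDerivation p δ₁
  have hbit : ∀ n, Bdd D fun z => δ₁^[n] z := by
    intro n
    induction n with
    | zero => exact Bdd.id'
    | succ n ih => simpa only [Function.iterate_succ_apply'] using hδ₁.comp ih
  have hEb : Bdd D E := by
    have := hbit p
    simpa only [← hE] using this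
  have hEs : ∀ b ∈ s, E b = 0 := fun b hb => by
    rw [hE, show p = (p - 1) + 1 by have := hp.two_le; omega, Function.iterate_succ_apply, hδs b hb]
    exact Function.iterate_fixed (map_zero δ₁) _
  have hEa : E a = 0 := by
    rw [hE, show p = (p - 2) + 1 + 1 by have := hp.two_le; omega, Function.iterate_succ_apply,
      Function.iterate_succ_apply, ha, Derivation.map_one_eq_zero]
    exact Function.iterate_fixed (map_zero δ₁) _
  have key : ∀ n, n ≤ p → ∀ z, S z → δ₁^[n] z = 0 → z ∈ clP p (insert a s) := by
    intro n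
    induction n with
    | zero =>
      intro _ z _ h
      rw [Function.iterate_zero_apply] at h
      rw [h]; exact zero_mem _
    | succ n ih =>
      intro hn z hz h
      have hw : δ₁^[n] z ∈ clP p s := hsep (δ₁^[n] z) fun δ hδ hs => by
        rw [hSit n z hz δ hδ hs, ← Function.iterate_succ_apply' δ₁ n z, h, mul_zero]
      have hfac : (n.factorial : K) ≠ 0 := fun h0 => by
        rw [CharP.cast_eq_zero_iff K p] at h0
        exact absurd ((Nat.Prime.dvd_factorial hp).1 h0) (by omega)
      set w := δ₁^[n] z * (n.factorial : K)⁻¹ with hwdef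
      have hwC : w ∈ clP p s := mul_mem hw (inv_mem (natCast_mem _ _))
      have hkill : ∀ c ∈ clP p s, ∀ (δ : Derivation ℤ K K), (∀ b ∈ s, δ b = 0) → δ c = 0 :=
        fun c hc δ hs => eq_zero_on_clP p δ hs hc
      have hlin : ∀ (b : K) (m : ℕ), δ₁^[m] (w * b) = w * δ₁^[m] b := by
        intro b m
        induction m with
        | zero => rfl
        | succ m ihm =>
          rw [Function.iterate_succ_apply', ihm, Function.iterate_succ_apply', Derivation.leibniz,
            hkill w hwC δ₁ hδs, smul_zero, add_zero, smul_eq_mul]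
      have hsub : ∀ m u t, δ₁^[m] (u - t) = δ₁^[m] u - δ₁^[m] t := by
        intro m
        induction m with
        | zero => simp
        | succ m ihm => intro u t; simp only [Function.iterate_succ_apply', ihm, map_sub]
      have hfa : ∀ m, δ₁^[m] (a ^ m) = (m.factorial : K) ∧ δ₁^[m + 1] (a ^ m) = 0 := by
        intro m
        induction m with
        | zero => simp
        | succ m ihm =>
          have h1 : δ₁ (a ^ (m + 1)) = ((m + 1 : ℕ) : K) * a ^ m := by
            rw [Derivation.leibniz_pow, ha, nsmul_eq_mul, smul_eq_mul, mul_one, Nat.add_sub_cancel]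
          have hnat : ∀ (k : ℕ) (b : K) (j : ℕ), δ₁^[j] ((k : K) * b) = (k : K) * δ₁^[j] b := by
            intro k b j
            induction j with
            | zero => rfl
            | succ j ihj =>
              rw [Function.iterate_succ_apply', ihj, Function.iterate_succ_apply', Derivation.leibniz,
                Derivation.map_natCast, smul_zero, add_zero, smul_eq_mul]
          rw [Function.iterate_succ_apply, Function.iterate_succ_apply, h1, hnat, hnat, ihm.1, ihm.2,
            mul_zero, Nat.factorial_succ, Nat.cast_mul]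
          exact ⟨rfl, rfl⟩
      have hrest := ih (by omega) (z - w * a ^ n) (fun δ hδ hs => by
        simp only [map_sub, Derivation.leibniz, hkill w hwC δ hs, hkill w hwC δ₁ hδs, smul_zero, add_zero,
          smul_eq_mul, Derivation.leibniz_pow, ha, hz δ hδ hs, nsmul_eq_mul]
        ring) (by
        rw [hsub, hlin, (hfa n).1, hwdef, mul_assoc, inv_mul_cancel₀ hfac, mul_one, sub_self])
      have := add_mem hrest (mul_mem (clP_mono p (Set.subset_insert a s) hwC)
        (pow_mem (mem_clP p (Set.mem_insert a s)) n))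
      rwa [sub_add_cancel] at this
  refine key p le_rfl x (hS x hx) ?_
  rw [← hE]
  exact hx E hEb hEs hEa

/-- What is killed by the bounded derivations killing a finite set lies in the field it generates
over the `p`-th powers. -/
theorem mem_clP_of_killed (hD : IsFrac D) (hsep : Sep p D) (s : Finset K) :
    ∀ x : K, (∀ δ : Derivation ℤ K K, Bdd D δ → (∀ b ∈ (s : Set K), δ b = 0) → δ x = 0) → x ∈ clP p (s : Set K) := by
  classical
  induction s using Finset.induction with
  | empty =>
    intro x hx
    obtain ⟨y, rfl⟩ := hsep x fun δ hδ => hx δ hδ (by simp)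
    exact pow_mem_clP p _ y
  | insert a s _ ih =>
    intro x hx
    rw [Finset.coe_insert] at hx ⊢
    by_cases h : ∀ δ : Derivation ℤ K K, Bdd D δ → (∀ b ∈ (s : Set K), δ b = 0) → δ a = 0
    · exact clP_mono p (Set.subset_insert _ _) (ih x fun δ hδ hs => hx δ hδ fun b hb =>
        hb.elim (fun e => e ▸ h δ hδ hs) (hs b))
    · push Not at h
      obtain ⟨δ₁, hδ₁, hδs, hδa⟩ := h
      exact mem_clP_insert p hD ih (a := a) (δ₁ := (δ₁ a)⁻¹ • δ₁) ((hδ₁.smul hD (δ₁ a)⁻¹).congr fun z => rfl)
        (fun b hb => by simp [hδs b hb]) (by simp [inv_mul_cancel₀ hδa])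
        fun δ hδ hs h0 => hx δ hδ fun b hb => hb.elim (fun e => e ▸ h0) (hs b)

/-- The values of a bounded derivation in an extension field. -/
noncomputable def push {L : Type u} [Field L] [Algebra K L] (δ : Derivation ℤ K K) : Derivation ℤ K L :=
  (Algebra.linearMap K L).compDer δ

theorem push_apply {L : Type u} [Field L] [Algebra K L] (δ : Derivation ℤ K K) (c : K) :
    (push δ : Derivation ℤ K L) c = algebraMap K L (δ c) := rfl

/-- A relation among the bounded derivations holds for all derivations. -/
theorem sum_eq_zero_of_bdd (hD : IsFrac D) (hsep : Sep p D) {L : Type u} [Field L] [Algebra K L] [CharP L p]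
    {ι : Type*} (t : Finset ι) (b : ι → K) (w : ι → L)
    (h : ∀ δ : Derivation ℤ K K, Bdd D δ → ∑ e ∈ t, algebraMap K L (δ (b e)) * w e = 0)
    (E : Derivation ℤ K L) : ∑ e ∈ t, E (b e) * w e = 0 := by
  classical
  suffices key : ∀ (s : Finset K) (E : Derivation ℤ K L), ∃ E' : Derivation ℤ K L,
      (∀ x ∈ clP p (s : Set K), E' x = E x) ∧ ∑ e ∈ t, E' (b e) * w e = 0 by
    obtain ⟨E', hE', h0⟩ := key (t.image b) E
    refine Eq.trans (Finset.sum_congr rfl fun e he => ?_) h0
    rw [hE' (b e) (mem_clP p (by simpa using ⟨e, he, rfl⟩))]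
  intro s
  induction s using Finset.induction with
  | empty => exact fun E => ⟨0, fun x hx => (eq_on_clP p E 0 (by simp) hx).symm, by simp⟩
  | insert a s _ ih =>
    intro E
    obtain ⟨E', hE', h0⟩ := ih E
    by_cases ha : a ∈ clP p (s : Set K)
    · refine ⟨E', fun x hx => hE' x (clP_le p (pow_mem_clP p _) ?_ hx), h0⟩
      rw [Finset.coe_insert]
      exact Set.insert_subset ha fun y hy => mem_clP p hy
    · obtain ⟨δ, hδ, hδs, hδa⟩ : ∃ δ : Derivation ℤ K K, Bdd D δ ∧ (∀ b ∈ (s : Set K), δ b = 0) ∧ δ a ≠ 0 := by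
        by_contra! hcon
        exact ha (mem_clP_of_killed p hD hsep s a hcon)
      have hδa' : algebraMap K L (δ a) ≠ 0 := (map_ne_zero _).2 hδa
      refine ⟨E' + ((E a - E' a) / algebraMap K L (δ a)) • (push δ : Derivation ℤ K L), fun x hx => ?_, ?_⟩
      · refine eq_on_clP p _ E (fun y hy => ?_) hx
        rw [Finset.coe_insert] at hy
        rcases hy with rfl | hy
        · simp [push_apply, div_mul_cancel₀ _ hδa']
        · simp [push_apply, hδs y hy, hE' y (mem_clP p hy)]
      · simp only [Derivation.add_apply, Derivation.smul_apply, smul_eq_mul, push_apply, add_mul,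
          Finset.sum_add_distrib, h0, zero_add, mul_assoc, ← Finset.mul_sum, h δ hδ, mul_zero]

end Groth.Agent.GRingCompleteLib
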