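import Groth.Agent.GRingCompleteLib.Base
import Groth.Agent.AdicDerLib.Basic
import Groth.Prelude.Def_EGA4b

/-!
# Extension of derivations to polynomial rings over completed local rings
-/

set_option autoImplicit false
set_option backward.isDefEq.respectTransparency false
set_option maxHeartbeats 1000000
universe u

open IsLocalRing

namespace Groth.Agent.GRingCompleteLib

open J2CompleteLib

/-- Derivations extend to adic completions. -/
theorem exists_ext_adic {A : Type u} [CommRing A] (I : Ideal A) (d : Der A) :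
    ∃ E : Der (AdicCompletion I A), ∀ a, E (algebraMap A _ a) = algebraMap A _ (d a) :=
  ⟨mkDer (fun x => AdicDerLib.extFun I d x) (AdicDerLib.extFun_add I d) (AdicDerLib.extFun_mul I d),
    fun a => AdicDerLib.extFun_algebraMap I d a⟩

theorem exists_ext_cpl_aux {M A : Type u} [CommRing M] [CommRing A] [IsLocalRing A] [Algebra M A]
    [Algebra.FormallySmooth M A] (d : Der M) :
    ∃ E : Der (EGA4.Cpl A), ∀ m, E (algebraMap A _ (algebraMap M A m)) = algebraMap A _ (algebraMap M A (d m)) := by
  obtain ⟨d', hd'⟩ := exists_ext_derToAlg (L := A) d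
  obtain ⟨E, hE⟩ := exists_ext_adic (IsLocalRing.maximalIdeal A) d'
  exact ⟨E, fun m => (hE _).trans (congrArg _ (hd' m))⟩

/-- The canonical map to the completed local ring. -/
noncomputable def toCpl {M : Type u} [CommRing M] (P : Ideal M) [P.IsPrime] :
    M →+* EGA4.Cpl (Localization.AtPrime P) :=
  (algebraMap (Localization.AtPrime P) (EGA4.Cpl (Localization.AtPrime P))).comp
    (algebraMap M (Localization.AtPrime P))

theorem exists_ext_cpl {M : Type u} [CommRing M] (P : Ideal M) [P.IsPrime] (d : Der M) :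
    ∃ E : Der (EGA4.Cpl (Localization.AtPrime P)), ∀ m, E (toCpl P m) = toCpl P (d m) := by
  haveI : Algebra.FormallySmooth M (Localization.AtPrime P) := Algebra.FormallySmooth.of_isLocalization P.primeCompl
  exact exists_ext_cpl_aux d

variable {R : Type u} [CommRing R] {σ ρ : Type}

/-- `R[x, z] → C[z]`. -/
noncomputable def toPoly {C : Type u} [CommRing C] (g : MvPolynomial σ R →+* C) :
    MvPolynomial (σ ⊕ ρ) R →+* MvPolynomial ρ C :=
  MvPolynomial.eval₂Hom (MvPolynomial.C.comp (g.comp MvPolynomial.C))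
    (Sum.elim (fun i => MvPolynomial.C (g (MvPolynomial.X i))) MvPolynomial.X)

theorem toPoly_C {C : Type u} [CommRing C] (g : MvPolynomial σ R →+* C) (r : R) :
    toPoly (ρ := ρ) g (MvPolynomial.C r) = MvPolynomial.C (g (MvPolynomial.C r)) := by
  simp [toPoly]

theorem toPoly_X_inl {C : Type u} [CommRing C] (g : MvPolynomial σ R →+* C) (i : σ) :
    toPoly (ρ := ρ) g (MvPolynomial.X (Sum.inl i)) = MvPolynomial.C (g (MvPolynomial.X i)) := by
  simp [toPoly]

theorem toPoly_X_inr {C : Type u} [CommRing C] (g : MvPolynomial σ R →+* C) (j : ρ) :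
    toPoly (ρ := ρ) g (MvPolynomial.X (Sum.inr j)) = MvPolynomial.X j := by
  simp [toPoly]

/-- The basic derivations extend. -/
theorem exists_ext_toPoly {C : Type u} [CommRing C] (g : MvPolynomial σ R →+* C)
    (hg : ∀ d : Der (MvPolynomial σ R), ∃ E : Der C, ∀ m, E (g m) = g (d m))
    (δ : Der (MvPolynomial (σ ⊕ ρ) R)) (hδ : δ ∈ baseDers R (σ ⊕ ρ)) :
    ∃ E : Der (MvPolynomial ρ C), ∀ f, E (toPoly g f) = toPoly g (δ f) := by
  classical
  have key : ∀ E : Der (MvPolynomial ρ C), (∀ r, E (toPoly g (MvPolynomial.C r)) = toPoly g (δ (MvPolynomial.C r))) →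
      (∀ i, E (toPoly g (MvPolynomial.X i)) = toPoly g (δ (MvPolynomial.X i))) → ∀ f, E (toPoly g f) = toPoly g (δ f) := by
    intro E h1 h2 f
    induction f using MvPolynomial.induction_on with
    | C r => exact h1 r
    | add p q hp hq => simp only [map_add, hp, hq]
    | mul_X p i hp =>
      rw [map_mul, Derivation.leibniz, hp, h2, Derivation.leibniz, smul_eq_mul, smul_eq_mul, smul_eq_mul, smul_eq_mul,
        map_add, map_mul, map_mul]
  have hC : ∀ r, (toPoly g : MvPolynomial (σ ⊕ ρ) R →+* MvPolynomial ρ C) (MvPolynomial.C r) =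
      MvPolynomial.C (g (MvPolynomial.C r)) := fun r => by simp [toPoly]
  have hl : ∀ i, (toPoly g : MvPolynomial (σ ⊕ ρ) R →+* MvPolynomial ρ C) (MvPolynomial.X (Sum.inl i)) =
      MvPolynomial.C (g (MvPolynomial.X i)) := fun i => by simp [toPoly]
  have hr : ∀ j, (toPoly g : MvPolynomial (σ ⊕ ρ) R →+* MvPolynomial ρ C) (MvPolynomial.X (Sum.inr j)) =
      MvPolynomial.X j := fun j => by simp [toPoly]
  have hCcoeff : ∀ {S : Type u} [CommRing S] {τ : Type} (E : Der (MvPolynomial τ S)) (d : Der S),
      (∀ f m, MvPolynomial.coeff m (E f) = d (MvPolynomial.coeff m f)) → ∀ c, E (MvPolynomial.C c) = MvPolynomial.C (d c) := by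
    intro S _ τ E d h c
    ext m
    rw [h, MvPolynomial.coeff_C, MvPolynomial.coeff_C]
    split <;> simp
  rcases hδ with ⟨d, hd, hdX⟩ | ⟨i, hi⟩
  · obtain ⟨dM, hdM, hdMX⟩ := exists_mapCoeff (σ := σ) d
    obtain ⟨dC, hdC⟩ := hg dM
    obtain ⟨E, hE, hEX⟩ := exists_mapCoeff (σ := ρ) dC
    refine ⟨E, key E (fun r => ?_) fun i => ?_⟩
    · rw [hC, hCcoeff E dC hE, hdC, hCcoeff dM d hdM, hCcoeff δ d hd, hC]
    · rw [hdX, map_zero]
      rcases i with i | j
      · rw [hl, hCcoeff E dC hE, hdC, hdMX, map_zero, map_zero]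
      · rw [hr, hEX]
  · rcases i with i | j
    · obtain ⟨dC, hdC⟩ := hg (mkDer (fun f => MvPolynomial.pderiv i f) (fun x y => map_add (MvPolynomial.pderiv i) x y)
        fun x y => Derivation.leibniz (MvPolynomial.pderiv i) x y)
      obtain ⟨E, hE, hEX⟩ := exists_mapCoeff (σ := ρ) dC
      refine ⟨E, key E (fun r => ?_) fun k => ?_⟩
      · rw [hC, hCcoeff E dC hE, hdC, mkDer_apply, hi, MvPolynomial.pderiv_C, MvPolynomial.pderiv_C, map_zero, map_zero, map_zero]
      · rw [hi]
        rcases k with k | j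
        · rw [hl, hCcoeff E dC hE, hdC, mkDer_apply]
          by_cases h : k = i
          · subst h; rw [MvPolynomial.pderiv_X_self, MvPolynomial.pderiv_X_self]; simp
          · rw [MvPolynomial.pderiv_X_of_ne h, MvPolynomial.pderiv_X_of_ne (by simpa using h)]; simp
        · rw [hr, hEX, MvPolynomial.pderiv_X_of_ne (by simp), map_zero]
    · refine ⟨mkDer (fun f => MvPolynomial.pderiv j f) (fun x y => map_add (MvPolynomial.pderiv j) x y)
        (fun x y => Derivation.leibniz (MvPolynomial.pderiv j) x y), key _ (fun r => ?_) fun k => ?_⟩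
      · rw [hC, mkDer_apply, MvPolynomial.pderiv_C, hi, MvPolynomial.pderiv_C, map_zero]
      · rw [mkDer_apply, hi]
        rcases k with k | l
        · rw [hl, MvPolynomial.pderiv_C, MvPolynomial.pderiv_X_of_ne (by simp), map_zero]
        · rw [hr]
          by_cases h : l = j
          · subst h; rw [MvPolynomial.pderiv_X_self, MvPolynomial.pderiv_X_self, map_one]
          · rw [MvPolynomial.pderiv_X_of_ne h, MvPolynomial.pderiv_X_of_ne (by simpa using h), map_zero]

end Groth.Agent.GRingCompleteLib
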