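import Groth.Agent.GRingCompleteLib.Ext
import Groth.Agent.CMCat.ComplQuot
import Groth.Agent.ExcLib.Transfer
import Groth.Agent.RegLocal.Completion

/-!
# Fibres of completions over the generic point
-/

set_option autoImplicit false
set_option backward.isDefEq.respectTransparency false
set_option maxHeartbeats 1000000
universe u

open IsLocalRing TensorProduct

namespace Groth.Agent.GRingCompleteLib

/-- Regularity passes through a surjection with known kernel. -/
theorem isRegularLocalRing_of_surjective {C T : Type u} [CommRing C] [CommRing T] (f : C →+* T)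
    (hf : Function.Surjective f) (I : Ideal C) (hI : RingHom.ker f = I) (P : Ideal T) [P.IsPrime]
    [IsRegularLocalRing (Localization.AtPrime (P.comap f) ⧸ I.map (algebraMap C (Localization.AtPrime (P.comap f))))] :
    IsRegularLocalRing (Localization.AtPrime P) := by
  subst hI
  let L := Localization.AtPrime (P.comap f)
  let φ := Localization.localRingHom (P.comap f) P f rfl
  have hφ : Function.Surjective φ := RingHom.surjective_localRingHom_of_surjective f hf P
  have hker : RingHom.ker φ = (RingHom.ker f).map (algebraMap C L) := by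
    refine le_antisymm (fun x hx => ?_) (Ideal.map_le_iff_le_comap.mpr fun r hr => ?_)
    · obtain ⟨r, s, rfl⟩ := IsLocalization.exists_mk'_eq (P.comap f).primeCompl x
      rw [RingHom.mem_ker, Localization.localRingHom_mk', IsLocalization.mk'_eq_zero_iff] at hx
      obtain ⟨⟨t, ht⟩, htr⟩ := hx
      obtain ⟨t, rfl⟩ := hf t
      have h1 : t * r ∈ RingHom.ker f := by rw [RingHom.mem_ker, map_mul]; exact htr
      have h2 : IsLocalization.mk' L r s = IsLocalization.mk' L (t * r) (⟨t, ht⟩ * s) := by
        rw [IsLocalization.mk'_mul, IsLocalization.mk'_self, one_mul]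
      rw [h2, IsLocalization.mk'_eq_mul_mk'_one]
      exact Ideal.mul_mem_right _ _ (Ideal.mem_map_of_mem _ h1)
    · rw [Ideal.mem_comap, RingHom.mem_ker, Localization.localRingHom_to_map, RingHom.mem_ker.mp hr, map_zero]
  exact IsRegularLocalRing.of_ringEquiv (R := L ⧸ (RingHom.ker f).map (algebraMap C L))
    ((Ideal.quotEquivOfEq hker.symm).trans (RingHom.quotientKerEquivOfSurjective hφ))

/-- Regularity of the local ring at a prime (avoids instance path issues with tensor products). -/
def RegAt (T : Type u) [CommRing T] (Q : Ideal T) [Q.IsPrime] : Prop := IsRegularLocalRing (Localization.AtPrime Q)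

/-- The hypotheses on the base. -/
def GoodBase (R : Type u) [CommRing R] [IsDomain R] : Prop :=
  CharZero R ∨ ∃ p : ℕ, p.Prime ∧ ∃ (_ : CharP R p),
    ∀ (K : Type u) [Field K] [Algebra R K] [IsFractionRing R K], J2CompleteLib.Sep p (algebraMap R K).range

/-- The completion of a quotient of a localization. -/
theorem exists_quotCompl (S R₁ : Type u) [CommRing S] [IsNoetherianRing S] [CommRing R₁] [Algebra S R₁]
    (hf : Function.Surjective (algebraMap S R₁)) (P : Ideal R₁) [P.IsPrime] :
    Nonempty (R₁ ⊗[S] EGA4.Cpl (Localization.AtPrime (P.comap (algebraMap S R₁))) ≃ₐ[R₁]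
      EGA4.Cpl (Localization.AtPrime P)) := by
  let P' := P.comap (algebraMap S R₁)
  let A := Localization.AtPrime P'
  let E := EGA4.Cpl A
  let J := RingHom.ker (algebraMap S R₁)
  let I := J.map (algebraMap S A)
  let q : (S ⧸ J) ≃ₐ[S] R₁ := Ideal.quotientKerAlgEquivOfSurjective (f := Algebra.ofId S R₁) hf
  have hJP : J ≤ P' := fun x hx => by
    rw [Ideal.mem_comap, RingHom.mem_ker.1 hx]; exact zero_mem _
  have hI : I ≤ maximalIdeal A := by
    rw [← Localization.AtPrime.map_eq_maximalIdeal]; exact Ideal.map_mono hJP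
  haveI : Nontrivial (A ⧸ I) := Ideal.Quotient.nontrivial_iff.2 fun h =>
    (maximalIdeal.isMaximal A).ne_top (top_le_iff.1 (h ▸ hI))
  haveI : IsLocalRing (A ⧸ I) := IsLocalRing.of_surjective' _ Ideal.Quotient.mk_surjective
  -- `A ⧸ I` is the localization of `R₁`
  let Pq := P.comap (q : (S ⧸ J) ≃+* R₁).toRingHom
  have hPq : Algebra.algebraMapSubmonoid (S ⧸ J) P'.primeCompl = Pq.primeCompl := by
    ext x
    constructor
    · rintro ⟨a, ha, rfl⟩ hmem
      refine ha ?_
      show algebraMap S R₁ a ∈ P
      rw [← q.commutes a]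
      exact hmem
    · intro hx
      obtain ⟨a, rfl⟩ := Ideal.Quotient.mk_surjective x
      refine ⟨a, fun ha => hx ?_, rfl⟩
      show q (algebraMap S (S ⧸ J) a) ∈ P
      rw [q.commutes]
      exact ha
  haveI : IsLocalization.AtPrime (A ⧸ I) Pq := by
    show IsLocalization Pq.primeCompl (A ⧸ I)
    rw [← hPq]; infer_instance
  let e1 : (A ⧸ I) ≃+* Localization.AtPrime P :=
    IsLocalization.ringEquivOfRingEquiv (S := A ⧸ I) (Localization.AtPrime P) (q : (S ⧸ J) ≃+* R₁)
      (M := Pq.primeCompl) (T := P.primeCompl) (by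
        ext y
        simp only [Submonoid.mem_map, Ideal.mem_primeCompl_iff]
        refine ⟨fun ⟨x, hx, hxy⟩ => hxy ▸ hx, fun hy => ⟨q.symm y, fun h => hy ?_, q.apply_symm_apply y⟩⟩
        have : q (q.symm y) ∈ P := h
        rwa [q.apply_symm_apply] at this)
  have hmax : (maximalIdeal (A ⧸ I)).map (e1 : (A ⧸ I) →+* Localization.AtPrime P) = maximalIdeal (Localization.AtPrime P) :=
    IsLocalRing.map_ringEquiv_maximalIdeal e1
  obtain ⟨e, he⟩ := CMCat.exists_complQuotEquiv (A := A) (P := I)
  have hJI : J.map (algebraMap S E) = I.map (algebraMap A E) := by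
    rw [Ideal.map_map, ← IsScalarTower.algebraMap_eq]
  let φ : R₁ ⊗[S] E ≃+* EGA4.Cpl (Localization.AtPrime P) :=
    (Algebra.TensorProduct.congr q.symm (AlgEquiv.refl : E ≃ₐ[S] E)).toRingEquiv.trans
      ((Algebra.TensorProduct.comm S (S ⧸ J) E).toRingEquiv.trans
        ((Algebra.TensorProduct.quotIdealMapEquivTensorQuot E J).symm.toRingEquiv.trans
          ((Ideal.quotEquivOfEq hJI).trans (e.trans (ExcLib.complEquiv e1 _ _ hmax)))))
  refine ⟨AlgEquiv.ofRingEquiv (f := φ) fun r => ?_⟩
  obtain ⟨s, rfl⟩ := hf r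
  show φ (algebraMap S R₁ s ⊗ₜ[S] (1 : E)) = _
  have h1 : φ (algebraMap S R₁ s ⊗ₜ[S] (1 : E)) =
      ExcLib.complEquiv e1 _ _ hmax (e (Ideal.Quotient.mk _ (algebraMap A E (algebraMap S A s)))) := by
    simp only [φ, RingEquiv.trans_apply, AlgEquiv.toRingEquiv_eq_coe, AlgEquiv.coe_ringEquiv]
    congr 2
    rw [Algebra.TensorProduct.congr_apply, Algebra.TensorProduct.map_tmul, AlgEquiv.coe_algHom, AlgEquiv.coe_algHom,
      AlgEquiv.commutes, AlgEquiv.coe_refl, id_eq, Algebra.TensorProduct.comm_tmul, ← IsScalarTower.algebraMap_apply S A E]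
    rw [show (Algebra.TensorProduct.quotIdealMapEquivTensorQuot E J).symm ((1 : E) ⊗ₜ[S] algebraMap S (S ⧸ J) s) =
      Ideal.Quotient.mk _ (algebraMap S E s) by
      rw [AlgEquiv.symm_apply_eq, Algebra.TensorProduct.quotIdealMapEquivTensorQuot_mk,
        Algebra.algebraMap_eq_smul_one, Algebra.algebraMap_eq_smul_one, TensorProduct.smul_tmul]]
    rfl
  rw [h1, he, ExcLib.complEquiv_algebraMap, IsScalarTower.algebraMap_apply R₁ (Localization.AtPrime P)
    (EGA4.Cpl (Localization.AtPrime P))]
  congr 1
  rw [show Ideal.Quotient.mk I (algebraMap S A s) = algebraMap (S ⧸ J) (A ⧸ I) (algebraMap S (S ⧸ J) s) from rfl]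
  rw [show (e1 : (A ⧸ I) → Localization.AtPrime P) (algebraMap (S ⧸ J) (A ⧸ I) (algebraMap S (S ⧸ J) s)) =
    algebraMap R₁ (Localization.AtPrime P) ((q : (S ⧸ J) ≃+* R₁) (algebraMap S (S ⧸ J) s)) from
      IsLocalization.ringEquivOfRingEquiv_eq _ _]
  exact congrArg _ (q.commutes s)

section Generic

variable {R : Type u} [CommRing R] [IsDomain R] [IsNoetherianRing R] [IsRegularRing R]

set_option maxHeartbeats 8000000 in
/-- Over a good base, the generic fibre of the completed local rings of polynomial rings is regular. -/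
theorem isRegularLocalRing_generic (hR : GoodBase R) {σ ρ : Type} [Fintype σ] [Fintype ρ]
    (P : Ideal (MvPolynomial σ R)) [P.IsPrime] (B : Type u) [CommRing B] [IsDomain B] [Algebra (MvPolynomial σ R) B]
    (π : MvPolynomial ρ (MvPolynomial σ R) →ₐ[MvPolynomial σ R] B) (hπ : Function.Surjective π)
    (hinj : Function.Injective ((algebraMap (MvPolynomial σ R) B).comp (MvPolynomial.C (σ := σ) (R := R))))
    (Q : Ideal (B ⊗[MvPolynomial σ R] EGA4.Cpl (Localization.AtPrime P))) [Q.IsPrime]
    (hQ : Q.comap (algebraMap B _) = ⊥) :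
    RegAt (B ⊗[MvPolynomial σ R] EGA4.Cpl (Localization.AtPrime P)) Q := by
  classical
  let M := MvPolynomial σ R
  let C := EGA4.Cpl (Localization.AtPrime P)
  let M' := MvPolynomial ρ M
  let M'' := MvPolynomial (σ ⊕ ρ) R
  haveI : IsRegularRing M := inferInstanceAs (IsRegularRing (MvPolynomial σ R))
  haveI : IsRegularLocalRing (Localization.AtPrime P) := IsRegularRing.isRegularLocalRing_localization P
  haveI : IsRegularLocalRing C := (RegLocal.isRegularLocalRing_completion_iff _ _
    (maximalIdeal.isMaximal (Localization.AtPrime P)).ne_top).1 inferInstance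
  haveI : IsRegularRing C := RegLocLib.isRegularRing_of_isRegularLocalRing C
  haveI : IsRegularRing (MvPolynomial ρ C) := inferInstance
  haveI : IsRegularRing M'' := inferInstanceAs (IsRegularRing (MvPolynomial (σ ⊕ ρ) R))
  -- the surjection `C[z] → B ⊗ C`
  let e := MvPolynomial.algebraTensorAlgEquiv (σ := ρ) M C
  let f₁ : C ⊗[M] M' →ₐ[C] C ⊗[M] B := Algebra.TensorProduct.map (AlgHom.id C C) π
  let g₁ : C ⊗[M] B →+* B ⊗[M] C := (Algebra.TensorProduct.comm M C B).toAlgHom.toRingHom
  let g₂ : MvPolynomial ρ C →+* C ⊗[M] M' := e.symm.toAlgHom.toRingHom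
  let f : MvPolynomial ρ C →+* B ⊗[M] C := (g₁.comp f₁.toRingHom).comp g₂
  have hf₁ : Function.Surjective f₁ := LinearMap.lTensor_surjective C hπ
  have hf : Function.Surjective f :=
    ((Algebra.TensorProduct.comm M C B).surjective.comp hf₁).comp e.symm.surjective
  let j : M' →+* MvPolynomial ρ C := MvPolynomial.map (algebraMap M C)
  have hej : ∀ x : M', e ((1 : C) ⊗ₜ[M] x) = j x := fun x => by
    induction x using MvPolynomial.induction_on with
    | C r =>
      rw [show (MvPolynomial.C r : M') = r • 1 by rw [Algebra.smul_def, mul_one, MvPolynomial.algebraMap_eq],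
        ← TensorProduct.smul_tmul]
      simp [e, j, MvPolynomial.algebraTensorAlgEquiv_tmul, Algebra.smul_def]
      exact (MvPolynomial.map_C _ _).symm
    | add p q hp hq => rw [TensorProduct.tmul_add, map_add, hp, hq, map_add]
    | mul_X p i hp =>
      rw [show (1 : C) ⊗ₜ[M] (p * MvPolynomial.X i) = ((1 : C) ⊗ₜ[M] p) * ((1 : C) ⊗ₜ[M] MvPolynomial.X i) by
        rw [Algebra.TensorProduct.tmul_mul_tmul, one_mul], map_mul, hp, map_mul]
      simp [e, j, MvPolynomial.algebraTensorAlgEquiv_tmul]
      exact congrArg _ (MvPolynomial.map_X _ _).symm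
  have hker : RingHom.ker (S := B ⊗[M] C) f = (RingHom.ker π).map j := by
    have h1 : RingHom.ker f₁ = (RingHom.ker π).map (Algebra.TensorProduct.includeRight : M' →ₐ[M] C ⊗[M] M') :=
      Algebra.TensorProduct.lTensor_ker π hπ
    refine le_antisymm (fun x hx => ?_) (Ideal.map_le_iff_le_comap.2 fun x hx => ?_)
    · have hx' : e.symm x ∈ RingHom.ker f₁ := by
        rw [RingHom.mem_ker] at hx ⊢
        exact (Algebra.TensorProduct.comm M C B).injective (hx.trans (map_zero _).symm)
      rw [h1] at hx'
      have h2 := Ideal.mem_map_of_mem e.toRingEquiv.toRingHom hx'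
      rw [← Ideal.map_coe (Algebra.TensorProduct.includeRight : M' →ₐ[M] C ⊗[M] M'), Ideal.map_map] at h2
      rw [show e.toRingEquiv.toRingHom.comp (Algebra.TensorProduct.includeRight : M' →ₐ[M] C ⊗[M] M') = j from
        RingHom.ext hej] at h2
      have h3 : e.toRingEquiv.toRingHom (e.symm x) = x := e.apply_symm_apply x
      rwa [h3] at h2
    · rw [Ideal.mem_comap, RingHom.mem_ker]
      show (Algebra.TensorProduct.comm M C B) (f₁ (e.symm (j x))) = 0
      rw [← hej, AlgEquiv.symm_apply_apply]
      have hx0 : π x = 0 := hx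
      show (Algebra.TensorProduct.comm M C B) ((1 : C) ⊗ₜ[M] π x) = 0
      rw [hx0, TensorProduct.tmul_zero, map_zero]
  -- the prime of `R[x, z]`
  let t : M'' →+* M' := toPoly (RingHom.id M)
  have ht : Function.Surjective t := by
    intro x
    induction x using MvPolynomial.induction_on with
    | C r =>
      induction r using MvPolynomial.induction_on with
      | C c => exact ⟨MvPolynomial.C c, toPoly_C (RingHom.id M) c⟩
      | add a b ha hb =>
        obtain ⟨a', ha'⟩ := ha; obtain ⟨b', hb'⟩ := hb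
        exact ⟨a' + b', by rw [map_add, ha', hb', map_add]⟩
      | mul_X a i ha =>
        obtain ⟨a', ha'⟩ := ha
        exact ⟨a' * MvPolynomial.X (Sum.inl i), by
          rw [map_mul, ha', show t (MvPolynomial.X (Sum.inl i)) = _ from toPoly_X_inl (RingHom.id M) i, RingHom.id_apply, map_mul]⟩
    | add a b ha hb =>
      obtain ⟨a', ha'⟩ := ha; obtain ⟨b', hb'⟩ := hb
      exact ⟨a' + b', by rw [map_add, ha', hb']⟩
    | mul_X a j ha =>
      obtain ⟨a', ha'⟩ := ha
      exact ⟨a' * MvPolynomial.X (Sum.inr j), by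
        rw [map_mul, ha', show t (MvPolynomial.X (Sum.inr j)) = _ from toPoly_X_inr (RingHom.id M) j]⟩
  have htj : j.comp t = toPoly (algebraMap M C) := by
    refine MvPolynomial.ringHom_ext (fun r => ?_) fun i => ?_
    · rw [RingHom.comp_apply, show t (MvPolynomial.C r) = _ from toPoly_C (RingHom.id M) r, RingHom.id_apply,
        toPoly_C (algebraMap M C) r]
      exact MvPolynomial.map_C _ _
    · rcases i with i | i
      · rw [RingHom.comp_apply, show t (MvPolynomial.X (Sum.inl i)) = _ from toPoly_X_inl (RingHom.id M) i,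
          RingHom.id_apply, toPoly_X_inl (algebraMap M C) i]
        exact MvPolynomial.map_C _ _
      · rw [RingHom.comp_apply, show t (MvPolynomial.X (Sum.inr i)) = _ from toPoly_X_inr (RingHom.id M) i,
          toPoly_X_inr (algebraMap M C) i]
        exact MvPolynomial.map_X _ _
  let P'' : Ideal M'' := (RingHom.ker π).comap t
  haveI : (RingHom.ker π).IsPrime := RingHom.ker_isPrime _
  haveI : P''.IsPrime := Ideal.IsPrime.comap t
  have hP''bot : P''.comap (MvPolynomial.C (σ := σ ⊕ ρ) (R := R)) = ⊥ := by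
    rw [eq_bot_iff]
    intro r hr
    rw [Ideal.mem_bot]
    apply hinj
    rw [map_zero]
    have h0 : π (t (MvPolynomial.C r)) = 0 := hr
    rw [show t (MvPolynomial.C r) = algebraMap M M' (MvPolynomial.C r) from toPoly_C (RingHom.id M) r,
      AlgHom.commutes] at h0
    exact h0
  letI : Algebra M'' (MvPolynomial ρ C) := (toPoly (algebraMap M C)).toAlgebra
  let Q₀ := Q.comap f
  have hQ₀ : Q₀.comap (algebraMap M'' (MvPolynomial ρ C)) = P'' := by
    ext x
    have h2 : f (j (t x)) = π (t x) ⊗ₜ[M] (1 : C) := by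
      show (Algebra.TensorProduct.comm M C B) (f₁ (e.symm (j (t x)))) = _
      rw [← hej, AlgEquiv.symm_apply_apply]
      rfl
    rw [Ideal.mem_comap, Ideal.mem_comap, RingHom.algebraMap_toAlgebra, ← htj]
    show f (j (t x)) ∈ Q ↔ _
    rw [h2, Ideal.mem_comap, RingHom.mem_ker, ← Ideal.mem_bot, ← hQ, Ideal.mem_comap]
    rfl
  haveI : IsRegularLocalRing (Localization.AtPrime P'') := IsRegularRing.isRegularLocalRing_localization P''
  haveI : IsRegularLocalRing (Localization.AtPrime Q₀) := IsRegularRing.isRegularLocalRing_localization Q₀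
  have hreg := isRegularLocalRing_quot_map P'' (baseDers R (σ ⊕ ρ))
    (fun g hg hδ => baseDers_detect hR P'' hP''bot g hg hδ) Q₀ hQ₀
    (fun δ hδ => exists_ext_toPoly (algebraMap M C) (fun d => by
      obtain ⟨E, hE⟩ := exists_ext_cpl P d
      exact ⟨E, fun m => by rw [IsScalarTower.algebraMap_apply M (Localization.AtPrime P) C,
        IsScalarTower.algebraMap_apply M (Localization.AtPrime P) C (d m)]; exact hE m⟩) δ hδ)
  have hmap : P''.map (algebraMap M'' (MvPolynomial ρ C)) = (RingHom.ker π).map j := by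
    rw [RingHom.algebraMap_toAlgebra, ← htj, ← Ideal.map_map, Ideal.map_comap_of_surjective t ht]
  haveI : IsRegularLocalRing (Localization.AtPrime Q₀ ⧸
      ((RingHom.ker π).map j).map (algebraMap (MvPolynomial ρ C) (Localization.AtPrime Q₀))) := by
    rw [← hmap, Ideal.map_map, ← IsScalarTower.algebraMap_eq]
    exact hreg
  exact isRegularLocalRing_of_surjective (T := B ⊗[M] C) f hf _ hker Q

end Generic

end Groth.Agent.GRingCompleteLib
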