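import Groth.Agent.GRingCompleteLib.Descend
import Groth.Agent.GRingCompleteLib.Completion
import Groth.Agent.NormalTensor.BranchComp

/-!
The formal fibres of finite free algebras test the G-ring property.
-/

set_option autoImplicit false
set_option linter.style.haveILetI false
universe u

open IsLocalRing TensorProduct

noncomputable section

namespace Groth.Agent.GRingCompleteLib

/-- Finite algebras receive finite free algebras hitting any finite set. -/
theorem exists_free_cover (R B : Type u) [CommRing R] [CommRing B] [Algebra R B] [Module.Finite R B] (s : Finset B) :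
    ∃ (S : Type u) (_ : CommRing S) (_ : Algebra R S), Module.Finite R S ∧ Module.Free R S ∧
      ∃ f : S →ₐ[R] B, (s : Set B) ⊆ Set.range f := by
  classical
  induction s using Finset.induction with
  | empty => exact ⟨R, inferInstance, inferInstance, inferInstance, inferInstance, Algebra.ofId R B, by simp⟩
  | insert b s _ ih =>
    obtain ⟨S, _, _, hfin, hfree, f, hf⟩ := ih
    haveI := hfin
    haveI := hfree
    obtain ⟨g, hg, hgb⟩ := (Algebra.IsIntegral.isIntegral (R := R) b)
    let G := g.map (algebraMap R S)
    have hG : G.Monic := hg.map _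
    haveI := hG.free_adjoinRoot
    haveI := hG.finite_adjoinRoot
    let F : AdjoinRoot G →ₐ[R] B := AdjoinRoot.liftAlgHom G f b (by
      show (g.map (algebraMap R S)).eval₂ (f : S →+* B) b = 0
      rw [Polynomial.eval₂_map]
      rwa [show (f : S →+* B).comp (algebraMap R S) = algebraMap R B from f.comp_algebraMap])
    refine ⟨AdjoinRoot G, inferInstance, inferInstance, Module.Finite.trans S _, Module.Free.trans (R := R) (S := S) (M := AdjoinRoot G), F, ?_⟩
    rw [Finset.coe_insert, Set.insert_subset_iff]
    refine ⟨⟨AdjoinRoot.root G, AdjoinRoot.liftAlgHom_root _ _ _ _⟩, fun x hx => ?_⟩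
    obtain ⟨y, rfl⟩ := hf hx
    refine ⟨AdjoinRoot.of G y, ?_⟩
    simp [F, AdjoinRoot.liftAlgHom]

/-- A regular formal fibre gives regularity of the completion of the quotient over its generic point. -/
theorem regAt_completion_quotient (S B : Type u) [CommRing S] [IsNoetherianRing S] [CommRing B] [IsDomain B]
    [Algebra S B] (hsurj : Function.Surjective (algebraMap S B)) (n : Ideal B) [n.IsPrime]
    (h : ∀ (p : Ideal (Localization.AtPrime (n.comap (algebraMap S B)))) [p.IsPrime],
      IsRegularRing (EGA4.formalFibre (Localization.AtPrime (n.comap (algebraMap S B))) p))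
    (Q : Ideal (EGA4.Cpl (Localization.AtPrime n))) [Q.IsPrime]
    (hQ : Q.comap (algebraMap B (EGA4.Cpl (Localization.AtPrime n))) = ⊥) :
    RegAt (EGA4.Cpl (Localization.AtPrime n)) Q := by
  let q := n.comap (algebraMap S B)
  let L := Localization.AtPrime q
  let E := EGA4.Cpl L
  haveI : IsNoetherianRing L := IsLocalization.isNoetherianRing q.primeCompl _ inferInstance
  obtain ⟨e⟩ := exists_quotCompl S B hsurj n
  haveI : IsNoetherianRing B := isNoetherianRing_of_surjective S B (algebraMap S B) hsurj
  haveI : IsNoetherianRing (B ⊗[S] E) := by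
    haveI : Module.Finite S B := Module.Finite.of_surjective (Algebra.linearMap S B) hsurj
    exact RegDesc.isNoetherianRing_tensor_essFiniteType S B E
  let K := FractionRing B
  let g : L →+* K := IsLocalization.lift (M := q.primeCompl) (g := algebraMap S K) fun y => by
    rw [IsScalarTower.algebraMap_apply S B K]
    refine isUnit_iff_ne_zero.2 ((map_ne_zero_iff _ (IsFractionRing.injective B K)).2 fun h0 => y.2 ?_)
    show algebraMap S B y ∈ n
    rw [h0]; exact zero_mem _
  letI : Algebra L K := g.toAlgebra
  haveI : IsScalarTower S L K := IsScalarTower.of_algebraMap_eq fun s => (IsLocalization.lift_eq _ s).symm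
  let p := RingHom.ker g
  haveI : p.IsPrime := RingHom.ker_isPrime g
  let φ : p.ResidueField →+* K := Ideal.ResidueField.lift p g le_rfl fun x hx => by
    show IsUnit (g x)
    exact isUnit_iff_ne_zero.2 hx
  have hφ : ∀ x, φ (algebraMap L p.ResidueField x) = g x := fun x => Ideal.ResidueField.lift_algebraMap p g _ _ x
  have hφs : Function.Surjective φ := fun z => by
    obtain ⟨a, b, -, rfl⟩ := IsFractionRing.div_surjective (A := B) z
    obtain ⟨a', rfl⟩ := hsurj a
    obtain ⟨b', rfl⟩ := hsurj b
    refine ⟨algebraMap L p.ResidueField (algebraMap S L a') / algebraMap L p.ResidueField (algebraMap S L b'), ?_⟩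
    rw [map_div₀, hφ, hφ]
    show algebraMap L K (algebraMap S L a') / algebraMap L K (algebraMap S L b') = _
    rw [← IsScalarTower.algebraMap_apply, ← IsScalarTower.algebraMap_apply, IsScalarTower.algebraMap_apply S B K,
      IsScalarTower.algebraMap_apply S B K]
  let φe : p.ResidueField ≃ₐ[L] K :=
    AlgEquiv.ofRingEquiv (f := RingEquiv.ofBijective φ ⟨φ.injective, hφs⟩) hφ
  haveI := h p
  haveI : IsRegularRing (K ⊗[L] E) := IsRegularRing.of_ringEquiv (R := p.Fiber E)
    (Algebra.TensorProduct.congr φe (AlgEquiv.refl : E ≃ₐ[L] E)).toRingEquiv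
  haveI := IsLocalization.tensorProduct_compatibleSMul q.primeCompl L K E
  haveI : IsRegularRing (K ⊗[S] E) := IsRegularRing.of_ringEquiv (R := K ⊗[L] E)
    (Algebra.TensorProduct.equivOfCompatibleSMul L S L K E).toRingEquiv.symm
  haveI : IsRegularRing (K ⊗[B] (B ⊗[S] E)) := IsRegularRing.of_ringEquiv (R := K ⊗[S] E)
    (Algebra.TensorProduct.cancelBaseChange S B K K E).toRingEquiv.symm
  exact regular_of_algEquiv B (EGA4.Cpl (Localization.AtPrime n)) (B ⊗[S] E) e.symm
    ((RegDesc.isRegularRing_generic_iff B K (B ⊗[S] E)).1 inferInstance) Q hQ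

/-- Formal fibres of finite free algebras test the G-ring property. -/
theorem isGRing_of_free_test (R : Type u) [CommRing R] [IsNoetherianRing R]
    (h : ∀ (S : Type u) [CommRing S] [Algebra R S] [Module.Finite R S] [Module.Free R S]
        (q : Ideal S) [q.IsPrime] (p : Ideal (Localization.AtPrime q)) [p.IsPrime],
        IsRegularRing (EGA4.formalFibre (Localization.AtPrime q) p)) : CAlg.IsGRing R := by
  classical
  refine ⟨inferInstance, fun p _ => ?_⟩
  let L := Localization.AtPrime p
  let E := EGA4.Cpl L
  haveI : IsNoetherianRing L := IsLocalization.isNoetherianRing p.primeCompl _ inferInstance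
  obtain ⟨_, hnE, hcE, _, hmE⟩ := RatliffLib.compl_facts L
  haveI := hnE
  haveI := hcE
  haveI : Module.Flat L E := AdicCompletion.flat_of_isNoetherian _
  haveI : Module.Flat R E := Module.Flat.trans R L E
  have hmE' : maximalIdeal E = p.map (algebraMap R E) := by
    rw [hmE]
    refine (congrArg (Ideal.map (algebraMap L E)) (Localization.AtPrime.map_eq_maximalIdeal (I := p)).symm).trans ?_
    rw [Ideal.map_map, ← IsScalarTower.algebraMap_eq]
  have happ : ∀ x : E, ∃ r s : R, s ∉ p ∧ algebraMap R E s * x - algebraMap R E r ∈ maximalIdeal E := fun x => by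
    obtain ⟨l, hl⟩ := NormalTensor.exists_sub_algebraMap_mem (A := L) x
    obtain ⟨r, s, rfl⟩ := IsLocalization.exists_mk'_eq p.primeCompl l
    refine ⟨r, s, s.2, ?_⟩
    have h1 := Ideal.mul_mem_left _ (algebraMap R E s) hl
    rw [mul_sub, IsScalarTower.algebraMap_apply R L E, ← map_mul, mul_comm (algebraMap R L s),
      IsLocalization.mk'_spec, ← IsScalarTower.algebraMap_apply, ← IsScalarTower.algebraMap_apply] at h1
    exact h1
  have h1 : CAlg.IsRegularHom R E := by
    refine (RegDesc.isRegularHom_iff_finite_domains R E).2 fun B _ _ _ _ q _ hq => ?_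
    haveI : IsNoetherianRing B := IsNoetherianRing.of_finite R B
    let T := B ⊗[R] E
    letI : Algebra E T := Algebra.TensorProduct.rightAlgebra
    haveI : Module.Finite E T := Module.Finite.equiv (Algebra.TensorProduct.commRight R E B).toLinearEquiv
    obtain ⟨N, hN, hqN⟩ := Ideal.exists_le_maximal q (Ideal.IsPrime.ne_top inferInstance)
    haveI := hN
    obtain ⟨-, -, hfac⟩ := FiniteCompleteLib.main E T
    obtain ⟨hnoe, hcomp⟩ := hfac ⟨N, hN⟩
    let TN := Localization.AtPrime N
    haveI : IsNoetherianRing TN := hnoe
    haveI : IsAdicComplete (maximalIdeal TN) TN := hcomp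
    let n := N.comap (algebraMap B T)
    let Bn := Localization.AtPrime n
    haveI : IsNoetherianRing Bn := IsLocalization.isNoetherianRing n.primeCompl _ inferInstance
    have hcomm : ∀ r, algebraMap B T (algebraMap R B r) = algebraMap E T (algebraMap R E r) := fun r =>
      Algebra.TensorProduct.tmul_one_eq_one_tmul r
    have hmN : (maximalIdeal E).map (algebraMap E T) ≤ N := by
      rw [Ideal.map_le_iff_le_comap]
      exact (eq_maximalIdeal (Ideal.isMaximal_comap_of_isIntegral_of_isMaximal (R := E) N)).ge
    have hsn : ∀ s, s ∉ p → algebraMap R B s ∉ n := fun s hs hmem => by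
      have hu : IsUnit (algebraMap E T (algebraMap R E s)) := by
        rw [IsScalarTower.algebraMap_apply R L E]
        exact ((IsLocalization.map_units L (⟨s, hs⟩ : p.primeCompl)).map _).map _
      exact hN.ne_top (Ideal.eq_top_of_isUnit_mem _ (show algebraMap B T (algebraMap R B s) ∈ N from hmem)
        (hcomm s ▸ hu))
    have hmn : (maximalIdeal E).map (algebraMap E T) ≤ n.map (algebraMap B T) := by
      rw [hmE', Ideal.map_map, Ideal.map_le_iff_le_comap]
      intro r hr
      show algebraMap E T (algebraMap R E r) ∈ n.map (algebraMap B T)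
      rw [← hcomm]
      refine Ideal.mem_map_of_mem _ (show algebraMap B T (algebraMap R B r) ∈ N from ?_)
      rw [hcomm]
      exact hmN (Ideal.mem_map_of_mem _ (hmE' ▸ Ideal.mem_map_of_mem _ hr))
    have key : ∀ t : T, ∃ (b : B) (s : R), s ∉ p ∧
        algebraMap B T (algebraMap R B s) * t - algebraMap B T b ∈ (maximalIdeal E).map (algebraMap E T) := fun t => by
      induction t using TensorProduct.induction_on with
      | zero => exact ⟨0, 1, fun h => Ideal.IsPrime.ne_top inferInstance (p.eq_top_iff_one.2 h), by simp⟩
      | tmul b x =>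
        obtain ⟨r, s, hs, hx⟩ := happ x
        refine ⟨b * algebraMap R B r, s, hs, ?_⟩
        have hb : b ⊗ₜ[R] x = algebraMap B T b * algebraMap E T x := by
          show _ = (b ⊗ₜ[R] (1 : E)) * ((1 : B) ⊗ₜ[R] x)
          rw [Algebra.TensorProduct.tmul_mul_tmul, mul_one, one_mul]
        have he : algebraMap B T (algebraMap R B s) * (b ⊗ₜ[R] x) - algebraMap B T (b * algebraMap R B r) =
            algebraMap B T b * algebraMap E T (algebraMap R E s * x - algebraMap R E r) := by
          rw [hb, map_mul, map_sub, map_mul, hcomm, hcomm]; ring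
        rw [he]
        exact Ideal.mul_mem_left _ _ (Ideal.mem_map_of_mem _ hx)
      | add x y hx hy =>
        obtain ⟨b₁, s₁, hs₁, h₁⟩ := hx
        obtain ⟨b₂, s₂, hs₂, h₂⟩ := hy
        refine ⟨algebraMap R B s₂ * b₁ + algebraMap R B s₁ * b₂, s₁ * s₂,
          fun h => (Ideal.IsPrime.mem_or_mem inferInstance h).elim hs₁ hs₂, ?_⟩
        convert add_mem (Ideal.mul_mem_left _ (algebraMap B T (algebraMap R B s₂)) h₁)
          (Ideal.mul_mem_left _ (algebraMap B T (algebraMap R B s₁)) h₂) using 1
        simp only [map_add, map_mul]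
        ring
    letI : Algebra Bn TN := (Localization.localRingHom n N (algebraMap B T) rfl).toAlgebra
    haveI : IsScalarTower B Bn TN := IsScalarTower.of_algebraMap_eq fun b =>
      (Localization.localRingHom_to_map n N (algebraMap B T) rfl b).symm
    haveI : IsLocalHom (algebraMap Bn TN) := Localization.isLocalHom_localRingHom n N (algebraMap B T) rfl
    haveI : Module.Flat T TN := IsLocalization.flat TN N.primeCompl
    haveI : Module.Flat B TN := Module.Flat.trans B T TN
    haveI : Module.Flat Bn TN := (Module.flat_iff_of_isLocalization Bn n.primeCompl TN).2 inferInstance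
    have hunit : ∀ s, s ∉ p → IsUnit (algebraMap T TN (algebraMap B T (algebraMap R B s))) := fun s hs =>
      IsLocalization.map_units TN (⟨_, hsn s hs⟩ : N.primeCompl)
    have hm : (maximalIdeal Bn).map (algebraMap Bn TN) = maximalIdeal TN := by
      refine (congrArg (Ideal.map (algebraMap Bn TN)) (Localization.AtPrime.map_eq_maximalIdeal (I := n)).symm).trans ?_
      rw [Ideal.map_map, ← IsScalarTower.algebraMap_eq, IsScalarTower.algebraMap_eq B T TN, ← Ideal.map_map]
      refine Eq.trans ?_ (Localization.AtPrime.map_eq_maximalIdeal (I := N))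
      refine le_antisymm (Ideal.map_mono Ideal.map_comap_le) (Ideal.map_le_iff_le_comap.2 fun t ht => ?_)
      obtain ⟨b, s, hs, hb⟩ := key t
      have hbn : b ∈ n := by
        show algebraMap B T b ∈ N
        simpa using sub_mem (Ideal.mul_mem_left N (algebraMap B T (algebraMap R B s)) ht) (hmN hb)
      have h2 := Ideal.mem_map_of_mem (algebraMap T TN) (add_mem (hmn hb) (Ideal.mem_map_of_mem (algebraMap B T) hbn))
      rw [sub_add_cancel, map_mul] at h2
      exact (Ideal.unit_mul_mem_iff_mem _ (hunit s hs)).1 h2
    have hk : Function.Bijective (IsLocalRing.ResidueField.map (algebraMap Bn TN)) := by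
      refine ⟨(IsLocalRing.ResidueField.map (algebraMap Bn TN)).injective, fun y => ?_⟩
      have hlift : ∀ t : T, ∃ z, IsLocalRing.ResidueField.map (algebraMap Bn TN) z = residue TN (algebraMap T TN t) := by
        intro t
        obtain ⟨b, s, hs, hb⟩ := key t
        refine ⟨residue Bn (IsLocalization.mk' Bn b (⟨_, hsn s hs⟩ : n.primeCompl)), ?_⟩
        rw [IsLocalRing.ResidueField.map_residue, ← sub_eq_zero, ← map_sub, residue_eq_zero_iff]
        refine (Ideal.unit_mul_mem_iff_mem _ (hunit s hs)).1 ?_
        have hx : algebraMap T TN (algebraMap B T (algebraMap R B s)) *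
            algebraMap Bn TN (IsLocalization.mk' Bn b (⟨_, hsn s hs⟩ : n.primeCompl)) = algebraMap T TN (algebraMap B T b) := by
          rw [← IsScalarTower.algebraMap_apply B T TN, ← IsScalarTower.algebraMap_apply B T TN,
            IsScalarTower.algebraMap_apply B Bn TN, IsScalarTower.algebraMap_apply B Bn TN, ← map_mul,
            mul_comm]
          exact congrArg _ (IsLocalization.mk'_spec Bn b (⟨_, hsn s hs⟩ : n.primeCompl))
        rw [mul_sub, hx, ← map_mul, ← map_sub]
        refine (IsLocalization.AtPrime.to_map_mem_maximal_iff TN N _).2 ?_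
        rw [← neg_sub]
        exact neg_mem (hmN hb)
      obtain ⟨y, rfl⟩ := residue_surjective y
      obtain ⟨c, w, rfl⟩ := IsLocalization.exists_mk'_eq N.primeCompl y
      obtain ⟨zc, hzc⟩ := hlift c
      obtain ⟨zw, hzw⟩ := hlift w
      refine ⟨zc / zw, ?_⟩
      rw [map_div₀, hzc, hzw, div_eq_iff, ← map_mul, IsLocalization.mk'_spec]
      exact fun h0 => w.2 ((IsLocalization.AtPrime.to_map_mem_maximal_iff TN N _).1 ((residue_eq_zero_iff _).1 h0))
    obtain ⟨alg, htower, -⟩ := exists_completion_cover Bn TN
    have hψ : Function.Bijective (algebraMap (EGA4.Cpl Bn) (EGA4.Cpl TN)) := S9232.result Bn TN hm hk _ (by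
      rw [← IsScalarTower.algebraMap_eq, ← IsScalarTower.algebraMap_eq])
    have hι : Function.Bijective (algebraMap TN (EGA4.Cpl TN)) := by
      have h3 := AdicCompletion.of_bijective_iff.2 (inferInstance : IsAdicComplete (maximalIdeal TN) TN)
      rwa [show (algebraMap TN (EGA4.Cpl TN) : TN → EGA4.Cpl TN) = AdicCompletion.of (maximalIdeal TN) TN from rfl]
    let e : TN ≃ₐ[B] EGA4.Cpl Bn :=
      (AlgEquiv.ofBijective (IsScalarTower.toAlgHom B TN (EGA4.Cpl TN)) hι).trans
        (AlgEquiv.ofRingEquiv (f := RingEquiv.ofBijective _ hψ) fun b => by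
          show algebraMap (EGA4.Cpl Bn) (EGA4.Cpl TN) (algebraMap B (EGA4.Cpl Bn) b) = _
          rw [IsScalarTower.algebraMap_apply B Bn (EGA4.Cpl Bn), ← IsScalarTower.algebraMap_apply,
            IsScalarTower.algebraMap_apply Bn TN (EGA4.Cpl TN), ← IsScalarTower.algebraMap_apply B Bn TN,
            ← IsScalarTower.algebraMap_apply]).symm
    obtain ⟨s, hs⟩ := Module.Finite.fg_top (R := R) (M := B)
    obtain ⟨S, _, _, hfin, hfree, f, hf⟩ := exists_free_cover R B s
    haveI := hfin
    haveI := hfree
    haveI : IsNoetherianRing S := IsNoetherianRing.of_finite R S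
    letI : Algebra S B := f.toRingHom.toAlgebra
    have hsurj : Function.Surjective (algebraMap S B) := fun b =>
      (hs.ge.trans (Submodule.span_le.2 hf) : ⊤ ≤ LinearMap.range f.toLinearMap) trivial
    have hdisj : Disjoint (N.primeCompl : Set T) (q : Set T) := Set.disjoint_left.2 fun x hx hxq => hx (hqN hxq)
    let q' := q.map (algebraMap T TN)
    haveI : q'.IsPrime := IsLocalization.isPrime_of_isPrime_disjoint N.primeCompl TN q inferInstance hdisj
    have hq' : q'.comap (algebraMap T TN) = q :=
      IsLocalization.under_map_of_isPrime_disjoint N.primeCompl TN inferInstance hdisj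
    haveI : IsRegularLocalRing (Localization.AtPrime q') :=
      regular_of_algEquiv B TN (EGA4.Cpl Bn) e (fun Q _ hQ =>
        regAt_completion_quotient S B hsurj n (fun p' _ => h S _ p') Q hQ) q'
        (by rw [IsScalarTower.algebraMap_eq B T TN, ← Ideal.comap_comap, hq', hq])
    have hloc := IsLocalization.isLocalization_isLocalization_atPrime_isLocalization N.primeCompl
      (Localization.AtPrime q') q'
    haveI : IsLocalization.AtPrime (Localization.AtPrime q') q := by convert! hloc; exact hq'.symm
    exact IsRegularLocalRing.of_ringEquiv (R := Localization.AtPrime q')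
      (IsLocalization.algEquiv q.primeCompl (Localization.AtPrime q') (Localization.AtPrime q)).toRingEquiv
  haveI : IsNoetherianRing (L ⊗[R] E) := RegDesc.isNoetherianRing_tensor_essFiniteType R L E
  have h2 := RegDesc.isRegularHom_baseChange R E L h1
  haveI := IsLocalization.tensorProduct_compatibleSMul p.primeCompl L L E
  let φ : L ⊗[R] E ≃ₐ[L] E :=
    (Algebra.TensorProduct.equivOfCompatibleSMul L R L L E).trans (Algebra.TensorProduct.lid L E)
  exact ExcLib.isRegularHom_of_ringEquiv (RingEquiv.refl L) φ.toRingEquiv (fun a => φ.commutes a) h2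

end Groth.Agent.GRingCompleteLib
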