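import Groth.Agent.GRingCompleteLib.Descend

/-!
# A single formal fibre of an essentially finite type algebra
-/

set_option autoImplicit false
set_option backward.isDefEq.respectTransparency false
set_option maxHeartbeats 1000000
universe u

open IsLocalRing TensorProduct

namespace Groth.Agent.GRingCompleteLib

/-- The same with a chosen regular cover. -/
theorem isRegularRing_tensor_cpl_aux (B : Type u) [CommRing B] [IsNoetherianRing B] [IsLocalRing B]
    (B₀ : Type u) [CommRing B₀] [Algebra B₀ B] (q : Ideal B₀) [q.IsPrime] [IsLocalization.AtPrime B q]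
    (T : Type u) [CommRing T] [Algebra B₀ T] [Module.FaithfullyFlat B₀ T] (hT : CAlg.IsGRing T)
    (L : Type u) [Field L] [Algebra B₀ L] [Algebra B L] [IsScalarTower B₀ B L] [Algebra.EssFiniteType B L]
    (hL : IsRegularRing (L ⊗[B₀] T)) : IsRegularRing (L ⊗[B] EGA4.Cpl B) := by
  haveI := hL
  haveI := hT.1
  obtain ⟨N, hN, alg, htower, hflat, hlochom⟩ := exists_local_cover B₀ B T q
  haveI := hN
  haveI := hflat
  haveI := hlochom
  haveI : IsNoetherianRing (Localization.AtPrime N) := IsLocalization.isNoetherianRing N.primeCompl _ inferInstance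
  haveI : IsNoetherianRing (EGA4.Cpl (Localization.AtPrime N)) := RegLocal.isNoetherianRing_completion (Localization.AtPrime N) _
  haveI : IsNoetherianRing (EGA4.Cpl B) := RegLocal.isNoetherianRing_completion B _
  letI : Algebra T (L ⊗[B₀] T) := Algebra.TensorProduct.rightAlgebra
  letI : Algebra (L ⊗[B₀] T) (L ⊗[B₀] (Localization.AtPrime N)) :=
    (Algebra.TensorProduct.map (AlgHom.id B₀ L) (IsScalarTower.toAlgHom B₀ T (Localization.AtPrime N))).toRingHom.toAlgebra
  haveI := RegHomLib.isLocalization_tensor B₀ L T (Localization.AtPrime N) N.primeCompl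
  haveI hr : IsRegularRing (L ⊗[B₀] (Localization.AtPrime N)) :=
    CyclicRootLib.isRegularRing_of_isLocalization (R := L ⊗[B₀] T)
      (Algebra.algebraMapSubmonoid (L ⊗[B₀] T) N.primeCompl) (L ⊗[B₀] (Localization.AtPrime N))
  haveI := IsLocalization.tensorProduct_compatibleSMul q.primeCompl B L (Localization.AtPrime N)
  let e₁ := (Algebra.TensorProduct.equivOfCompatibleSMul B₀ B B₀ L (Localization.AtPrime N)).symm.toRingEquiv
  haveI : IsRegularRing ((Localization.AtPrime N) ⊗[B] L) := IsRegularRing.of_ringEquiv (R := L ⊗[B₀] (Localization.AtPrime N))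
    (e₁.trans (Algebra.TensorProduct.comm B L (Localization.AtPrime N)).toRingEquiv)
  haveI : IsNoetherianRing ((Localization.AtPrime N) ⊗[B] L) := Algebra.EssFiniteType.isNoetherianRing (Localization.AtPrime N) _
  haveI : IsNoetherianRing (((Localization.AtPrime N) ⊗[B] L) ⊗[(Localization.AtPrime N)] EGA4.Cpl (Localization.AtPrime N)) := RegDesc.isNoetherianRing_tensor_essFiniteType (Localization.AtPrime N) _ _
  have h1 := RegDesc.isRegularHom_baseChange (Localization.AtPrime N) (EGA4.Cpl (Localization.AtPrime N)) ((Localization.AtPrime N) ⊗[B] L) (hT.2 N)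
  haveI := h1.1
  haveI : IsRegularRing (((Localization.AtPrime N) ⊗[B] L) ⊗[(Localization.AtPrime N)] EGA4.Cpl (Localization.AtPrime N)) := RegHomLib.isRegularRing_of_fibres ((Localization.AtPrime N) ⊗[B] L) _ fun P _ => by
    haveI := (h1.2 P).1
    exact RegDesc.regular_tensor_any_field h1 P.ResidueField
  haveI : IsRegularRing (L ⊗[B] EGA4.Cpl (Localization.AtPrime N)) := IsRegularRing.of_ringEquiv (R := ((Localization.AtPrime N) ⊗[B] L) ⊗[(Localization.AtPrime N)] EGA4.Cpl (Localization.AtPrime N))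
    ((Algebra.TensorProduct.comm (Localization.AtPrime N) ((Localization.AtPrime N) ⊗[B] L) _).toRingEquiv.trans
      ((Algebra.TensorProduct.cancelBaseChange B (Localization.AtPrime N) (EGA4.Cpl (Localization.AtPrime N)) (EGA4.Cpl (Localization.AtPrime N)) L).toRingEquiv.trans
        (Algebra.TensorProduct.comm B (EGA4.Cpl (Localization.AtPrime N)) L).toRingEquiv))
  obtain ⟨alg', htower', hff⟩ := exists_completion_cover B (Localization.AtPrime N)
  haveI : IsNoetherianRing ((EGA4.Cpl B) ⊗[B] L) := Algebra.EssFiniteType.isNoetherianRing (EGA4.Cpl B) _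
  haveI : IsRegularRing (((EGA4.Cpl B) ⊗[B] L) ⊗[EGA4.Cpl B] EGA4.Cpl (Localization.AtPrime N)) :=
    IsRegularRing.of_ringEquiv (R := L ⊗[B] EGA4.Cpl (Localization.AtPrime N))
      ((Algebra.TensorProduct.comm (EGA4.Cpl B) ((EGA4.Cpl B) ⊗[B] L) _).toRingEquiv.trans
        ((Algebra.TensorProduct.cancelBaseChange B (EGA4.Cpl B) (EGA4.Cpl (Localization.AtPrime N)) (EGA4.Cpl (Localization.AtPrime N)) L).toRingEquiv.trans
          (Algebra.TensorProduct.comm B (EGA4.Cpl (Localization.AtPrime N)) L).toRingEquiv)).symm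
  haveI : IsRegularRing ((EGA4.Cpl B) ⊗[B] L) :=
    RegDesc.isRegularRing_of_faithfullyFlat _ (((EGA4.Cpl B) ⊗[B] L) ⊗[EGA4.Cpl B] EGA4.Cpl (Localization.AtPrime N))
  exact IsRegularRing.of_ringEquiv (R := (EGA4.Cpl B) ⊗[B] L) (Algebra.TensorProduct.comm B (EGA4.Cpl B) L).toRingEquiv

/-- A field essentially of finite type over the base which sees a regular fibre of `A → Â` sees a regular one of `B → B̂`. -/
theorem isRegularRing_tensor_cpl (A : Type u) [CommRing A] [IsNoetherianRing A] [IsLocalRing A]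
    (B : Type u) [CommRing B] [IsNoetherianRing B] [IsLocalRing B] [Algebra A B] [Algebra.EssFiniteType A B]
    (L : Type u) [Field L] [Algebra A L] [Algebra B L] [IsScalarTower A B L] [Algebra.EssFiniteType B L]
    (hL : IsRegularRing (L ⊗[A] EGA4.Cpl A)) : IsRegularRing (L ⊗[B] EGA4.Cpl B) := by
  obtain ⟨B₀, q, hq, hft, hloc⟩ := exists_model A B
  haveI := hq
  haveI := hft
  haveI := hloc
  haveI : IsScalarTower A B₀ L := IsScalarTower.of_algebraMap_eq fun a => by
    rw [IsScalarTower.algebraMap_apply A B L, IsScalarTower.algebraMap_apply A B₀ B,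
      ← IsScalarTower.algebraMap_apply B₀ B L]
  obtain ⟨_, hnA, _, _, _⟩ := RatliffLib.compl_facts A
  haveI := hnA
  haveI := hL
  haveI : Module.FaithfullyFlat A (EGA4.Cpl A) := Module.FaithfullyFlat.of_flat_of_isLocalHom
  exact isRegularRing_tensor_cpl_aux B B₀ q (B₀ ⊗[A] EGA4.Cpl A) (isGRing_cover A B₀) L
    (IsRegularRing.of_ringEquiv (R := L ⊗[A] EGA4.Cpl A)
      (Algebra.TensorProduct.cancelBaseChange A B₀ L L (EGA4.Cpl A)).toRingEquiv.symm)

end Groth.Agent.GRingCompleteLib
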